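import Mathlib
import Cfsg.Agent.Lib.Characters.Counting
import Cfsg.Agent.Lib.Characters.Integrality
import Cfsg.Agent.Lib.Characters.Induction

/-!
Tools for showing that a product of two copies of a class contains a given element.
-/

set_option autoImplicit false
set_option linter.unusedSectionVars false
set_option linter.style.haveILetI false

namespace Cfsg.Agent.Ree.Cover

open Cfsg.Agent.Characters
open scoped ComplexConjugate

universe u

variable {G : Type u} [Group G] [Fintype G] [Fintype (Cfsg.IrrCharacter G)]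

/-- The order of a centraliser, as a real number. -/
noncomputable def centR (g : G) : ℝ := (Nat.card (Subgroup.centralizer ({g} : Set G)) : ℝ)

/-- The sum deciding the class multiplication. -/
noncomputable def csum (x g : G) : ℂ :=
  ∑ χ : Cfsg.IrrCharacter G,
    (χ : G → ℂ) x * (χ : G → ℂ) x * conj ((χ : G → ℂ) g) / (χ : G → ℂ) 1

theorem exists_of_csum (x g : G) (h : csum x g ≠ 0) :
    ∃ u v : G, g = u * x * u⁻¹ * (v * x * v⁻¹) := by
  classical
  have h1 : ∑ z : G, ∑ χ : Cfsg.IrrCharacter G,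
      (χ : G → ℂ) (x * (z * x * z⁻¹)) * conj ((χ : G → ℂ) g) ≠ 0 := by
    have h2 : ∀ χ : Cfsg.IrrCharacter G,
        ∑ z : G, (χ : G → ℂ) (x * (z * x * z⁻¹)) * conj ((χ : G → ℂ) g) = (Nat.card G : ℂ) *
          ((χ : G → ℂ) x * (χ : G → ℂ) x * conj ((χ : G → ℂ) g) / (χ : G → ℂ) 1) := fun χ => by
      rw [← Finset.sum_mul, sum_mul_conjugates χ.2]; ring
    rw [Finset.sum_comm, Finset.sum_congr rfl fun χ _ => h2 χ, ← Finset.mul_sum]
    exact mul_ne_zero natCard_ne_zero h
  obtain ⟨z, -, hz⟩ := Finset.exists_ne_zero_of_sum_ne_zero h1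
  have hconj : IsConj (x * (z * x * z⁻¹)) g := by
    by_contra hn
    exact hz (by rw [second_orthogonality, if_neg hn])
  obtain ⟨c, hc⟩ := isConj_iff.1 hconj
  exact ⟨c, c * z, by rw [← hc]; group⟩

theorem sum_norm_sq (g : G) :
    ∑ χ : Cfsg.IrrCharacter G, ‖(χ : G → ℂ) g‖ ^ 2 = centR g := by
  have h := second_orthogonality g g
  rw [if_pos (IsConj.refl g)] at h
  apply Complex.ofReal_injective
  rw [centR, Complex.ofReal_natCast, ← h]
  push_cast
  exact Finset.sum_congr rfl fun χ _ => (Complex.mul_conj' _).symm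

open Classical in
/-- The nontrivial irreducible characters. -/
noncomputable def nontriv (G : Type u) [Group G] [Fintype G] [Fintype (Cfsg.IrrCharacter G)] :
    Finset (Cfsg.IrrCharacter G) :=
  Finset.univ.erase (trivIrr G)

theorem sum_split {M : Type*} [AddCommMonoid M] (f : Cfsg.IrrCharacter G → M) :
    ∑ χ, f χ = f (trivIrr G) + ∑ χ ∈ nontriv G, f χ :=
  by classical exact (Finset.add_sum_erase _ _ (Finset.mem_univ _)).symm

theorem mem_nontriv {χ : Cfsg.IrrCharacter G} : χ ∈ nontriv G ↔ χ ≠ trivIrr G := by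
  classical simp [nontriv]

theorem sum_norm_sq_nontriv (g : G) :
    ∑ χ ∈ nontriv G, ‖(χ : G → ℂ) g‖ ^ 2 = centR g - 1 := by
  rw [← sum_norm_sq g, sum_split fun χ : Cfsg.IrrCharacter G => ‖(χ : G → ℂ) g‖ ^ 2]
  simp

/-- Membership in the product of two classes, from a bound on the nontrivial terms. -/
theorem exists_of_bound (x g : G)
    (h : ∑ χ ∈ nontriv G,
      ‖(χ : G → ℂ) x‖ ^ 2 * ‖(χ : G → ℂ) g‖ / ‖(χ : G → ℂ) 1‖ < 1) :
    ∃ u v : G, g = u * x * u⁻¹ * (v * x * v⁻¹) := by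
  refine exists_of_csum x g fun e => ?_
  rw [csum, sum_split] at e
  simp only [trivIrr_coe, map_one, one_mul, div_one] at e
  have h1 := norm_sum_le (nontriv G) fun χ : Cfsg.IrrCharacter G =>
    (χ : G → ℂ) x * (χ : G → ℂ) x * conj ((χ : G → ℂ) g) / (χ : G → ℂ) 1
  rw [eq_neg_of_add_eq_zero_right e, norm_neg, norm_one] at h1
  refine absurd h (not_lt.2 (h1.trans (le_of_eq ?_)))
  exact Finset.sum_congr rfl fun χ _ => by
    rw [norm_div, norm_mul, norm_mul, Complex.norm_conj, sq]

/-- Elements with small centralisers. -/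
theorem exists_of_small (x g : G) {δ : ℝ} (hδ : 0 < δ)
    (hdeg : ∀ χ ∈ nontriv G, δ ≤ ‖(χ : G → ℂ) 1‖)
    (h : (centR x - 1) ^ 2 * centR g < δ ^ 2) :
    ∃ u v : G, g = u * x * u⁻¹ * (v * x * v⁻¹) := by
  refine exists_of_bound x g ?_
  have hx : 0 ≤ centR x - 1 := by
    rw [← sum_norm_sq_nontriv]; positivity
  have hs : 0 ≤ Real.sqrt (centR g) := Real.sqrt_nonneg _
  refine lt_of_le_of_lt (b := ((centR x - 1) * Real.sqrt (centR g)) / δ) ?_ ?_
  · rw [← sum_norm_sq_nontriv, Finset.sum_mul, Finset.sum_div]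
    refine Finset.sum_le_sum fun χ hχ => ?_
    refine div_le_div₀ (by positivity) (mul_le_mul_of_nonneg_left ?_ (by positivity)) hδ (hdeg χ hχ)
    refine Real.le_sqrt_of_sq_le ?_
    rw [← sum_norm_sq g]
    exact Finset.single_le_sum (f := fun ψ : Cfsg.IrrCharacter G => ‖(ψ : G → ℂ) g‖ ^ 2)
      (fun _ _ => by positivity) (Finset.mem_univ χ)
  · rw [div_lt_one hδ]
    refine lt_of_pow_lt_pow_left₀ 2 hδ.le ?_
    rw [mul_pow, Real.sq_sqrt (by unfold centR; positivity)]
    exact h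

end Cfsg.Agent.Ree.Cover
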