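import Cfsg.Agent.OddChar.Coherence.TI
import Cfsg.Agent.Lib.Characters.Coherence
import Cfsg.Agent.Lib.CharTheory.TIFrobenius
import Cfsg.Agent.Lib.Ree.Cover.Chars

/-!
The exceptional characters of a self-centralising abelian subgroup of index six in its normaliser.
-/

set_option autoImplicit false
set_option linter.unusedSectionVars false
set_option linter.style.haveILetI false

namespace Cfsg.Agent.Ree.Cover

open Cfsg.Agent.Characters Cfsg.Agent.CharTheory
open Cfsg.Agent.OddChar.Coherence Cfsg.Agent.OddChar.Isometry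
open scoped ComplexConjugate

universe u

variable {G : Type u} [Group G] [Fintype G] [Fintype (Cfsg.IrrCharacter G)]

/-- What is used about the exceptional characters. -/
structure Excep (T : Subgroup G) (k : ℕ) (μ : Fin k → Cfsg.IrrCharacter G) (ε M : ℤ) : Prop where
  inj : Function.Injective μ
  card : 6 * k + 1 = Nat.card T
  sign : ε * ε = 1
  free : ∀ g : G, (∀ c : G, c⁻¹ * g * c ∈ T → c⁻¹ * g * c = 1) →
    ∀ i j, (μ i : G → ℂ) g = (μ j : G → ℂ) g
  congr : ∀ i, ∀ D : ℕ, (μ i : G → ℂ) 1 = (D : ℂ) →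
    (Nat.card T : ℤ) ∣ (D : ℤ) - 6 * ε - M
  norm : ∀ y ∈ T, y ≠ 1 → ∑ i, ‖(μ i : G → ℂ) y‖ ^ 2 =
    (Nat.card T : ℝ) - 6 - 2 * ε * M + k * M ^ 2
  other : ∀ χ : Cfsg.IrrCharacter G, (∀ i, χ ≠ μ i) →
    ∃ n : ℤ, ∀ y ∈ T, y ≠ 1 → (χ : G → ℂ) y = (n : ℂ)

/-- A constant value of a generalised character on a subgroup away from one is an integer. -/
theorem int_of_const {t a d : ℤ} (ht : t ≠ 1) {c : ℂ} (hc : IsIntegral ℤ c)
    (h : (d : ℂ) + ((t : ℂ) - 1) * c = (t : ℂ) * a) : ∃ n : ℤ, c = (n : ℂ) := by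
  have hne : ((t : ℂ) - 1) ≠ 0 := fun e => ht (by exact_mod_cast sub_eq_zero.1 e)
  have hq : c = (((t * a - d : ℤ) : ℚ) / ((t - 1 : ℤ) : ℚ) : ℚ) := by
    push_cast
    rw [eq_div_iff hne]
    linear_combination h
  rw [hq] at hc ⊢
  exact exists_int_of_isIntegral_ratCast hc

theorem exists_excep (T : Subgroup G) (hcomm : ∀ a ∈ T, ∀ b ∈ T, a * b = b * a)
    (hcent : ∀ y ∈ T, y ≠ 1 → Subgroup.centralizer ({y} : Set G) = T)
    (hN : Nat.card (Subgroup.normalizer (T : Set G)) = 6 * Nat.card T) (h13 : 13 ≤ Nat.card T) :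
    ∃ (k : ℕ) (μ : Fin k → Cfsg.IrrCharacter G) (ε M : ℤ), Excep T k μ ε M := by
  classical
  set L := Subgroup.normalizer (T : Set G) with hL
  haveI := Fintype.ofFinite L
  haveI := Fintype.ofFinite (Cfsg.IrrCharacter L)
  set Kt := T.subgroupOf L with hKt
  haveI hKn : Kt.Normal := ⟨fun y hy g => by
    have := (Subgroup.mem_normalizer_iff.1 g.2 (y : G)).1 hy
    exact this⟩
  haveI := Fintype.ofFinite Kt
  have hKcard : Nat.card Kt = Nat.card T :=
    Nat.card_congr (Subgroup.subgroupOfEquivOfLe Subgroup.le_normalizer).toEquiv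
  have hcentL : ∀ y ∈ Kt, y ≠ 1 → Subgroup.centralizer ({y} : Set L) = Kt := by
    intro y hy hy1
    have hc := hcent (y : G) hy (fun e => hy1 (Subtype.ext e))
    ext z
    rw [Subgroup.mem_centralizer_singleton_iff]
    refine ⟨fun h => ?_, fun h => Subtype.ext (hcomm _ h _ hy)⟩
    show (z : G) ∈ T
    rw [← hc, Subgroup.mem_centralizer_singleton_iff]
    exact congrArg Subtype.val h
  have hC : TIFrobenius.CentLe Kt := fun y hy hy1 => (hcentL y hy hy1).le
  have hTI : ∀ y : L, y ∈ Kt → y ≠ 1 → ∀ x : G, ∀ hx : x⁻¹ * (y : G) * x ∈ L,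
      (⟨_, hx⟩ : L) ∈ Kt → x ∈ L := by
    intro y hy hy1 x hx hmem
    have hy1' : (y : G) ≠ 1 := fun e => hy1 (Subtype.ext e)
    have hc1 := hcent (y : G) hy hy1'
    have hc2 := hcent _ (show x⁻¹ * (y : G) * x ∈ T from hmem) (fun e => hy1' (by
      calc (y : G) = x * (x⁻¹ * y * x) * x⁻¹ := by group
        _ = 1 := by rw [e]; group))
    refine Subgroup.mem_normalizer_iff.2 fun z => ⟨fun hz => ?_, fun hz => ?_⟩
    · rw [← hc2, Subgroup.mem_centralizer_singleton_iff] at hz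
      show x * z * x⁻¹ ∈ T
      rw [← hc1, Subgroup.mem_centralizer_singleton_iff]
      calc x * z * x⁻¹ * y = x * (z * (x⁻¹ * y * x)) * x⁻¹ := by group
        _ = _ := by rw [hz]; group
    · have hz' : x * z * x⁻¹ ∈ T := hz
      rw [← hc1, Subgroup.mem_centralizer_singleton_iff] at hz'
      show z ∈ T
      rw [← hc2, Subgroup.mem_centralizer_singleton_iff]
      calc z * (x⁻¹ * y * x) = x⁻¹ * (x * z * x⁻¹ * y) * x := by group
        _ = _ := by rw [hz']; group
  have hindex : Kt.index = 6 := by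
    have h := Kt.card_mul_index
    rw [hKcard, hN, mul_comm 6] at h
    exact Nat.eq_of_mul_eq_mul_left (by omega) h
  let S := {ξ : Cfsg.IrrCharacter L // TIFrobenius.Rel Kt (ξ : L → ℂ)}
  haveI := Fintype.ofFinite S
  set k := Fintype.card S with hk
  let e : Fin k ≃ S := (Fintype.equivFin S).symm
  set ξ : Fin k → L → ℂ := fun i => ((e i).1 : L → ℂ) with hξdef
  have hξinj : ∀ {i j}, ξ i = ξ j → i = j := fun {i j} h =>
    e.injective (Subtype.ext (Subtype.ext h))
  have hξirr : ∀ i, Cfsg.IsIrrCharacter L (ξ i) := fun i => (e i).1.2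
  have hrel : ∀ i, TIFrobenius.Rel Kt (ξ i) := fun i => (e i).2
  have hdeg : ∀ i, ξ i 1 = 6 := by
    intro i
    obtain ⟨θ, hθ, -, hθe⟩ := TIFrobenius.exists_theta hC (hξirr i) (hrel i)
    have h1 : θ 1 = 1 := irr_degree_one_of_comm
      (fun a b => Subtype.ext (Subtype.ext (hcomm _ a.2 _ b.2))) hθ
    rw [← hθe, indFun_one, hindex, h1]; norm_num
  have hsumK : ∀ i, ∑ y : Kt, ξ i y = 0 := fun i =>
    TIFrobenius.sum_rel_eq_zero hC (hξirr i) (hrel i)
  -- second orthogonality in the normaliser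
  set N₀ : ℂ := ∑ ψ ∈ Finset.univ.filter
    (fun ψ : Cfsg.IrrCharacter L => ¬ TIFrobenius.Rel Kt (ψ : L → ℂ)), ((ψ : L → ℂ) 1) ^ 2 with hN₀
  have hsplit : ∀ f : Cfsg.IrrCharacter L → ℂ, ∑ ψ, f ψ = ∑ i, f (e i).1 +
      ∑ ψ ∈ Finset.univ.filter (fun ψ : Cfsg.IrrCharacter L => ¬ TIFrobenius.Rel Kt (ψ : L → ℂ)),
        f ψ := by
    intro f
    rw [← Finset.sum_filter_add_sum_filter_not Finset.univ
      (fun ψ : Cfsg.IrrCharacter L => TIFrobenius.Rel Kt (ψ : L → ℂ)) f]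
    congr 1
    rw [Finset.sum_subtype (p := fun ψ : Cfsg.IrrCharacter L => TIFrobenius.Rel Kt (ψ : L → ℂ))
      _ (fun ψ => by simp) f]
    exact (Equiv.sum_comp e fun p : S => f p.1).symm
  have hnon : ∀ ψ ∈ Finset.univ.filter
      (fun ψ : Cfsg.IrrCharacter L => ¬ TIFrobenius.Rel Kt (ψ : L → ℂ)),
      ∀ y ∈ Kt, (ψ : L → ℂ) y = (ψ : L → ℂ) 1 := fun ψ hψ y hy => by
    by_contra hne
    exact (Finset.mem_filter.1 hψ).2 ⟨y, hy, hne⟩
  have hone : ∀ ψ : Cfsg.IrrCharacter L, conj ((ψ : L → ℂ) 1) = (ψ : L → ℂ) 1 := fun ψ => by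
    obtain ⟨n, hn⟩ := char_one_nat (irr_isCharacter ψ)
    rw [hn, Complex.conj_natCast]
  have hy6 : ∀ y ∈ Kt, y ≠ 1 → 6 * ∑ i, ξ i y + N₀ = 0 := by
    intro y hy hy1
    have h := second_orthogonality y (1 : L)
    rw [if_neg (fun hc => hy1 (isConj_one_left.1 hc)), hsplit] at h
    rw [← h, Finset.mul_sum, hN₀]
    congr 1
    · exact Finset.sum_congr rfl fun i _ => by
        rw [hone, show ((e i).1 : L → ℂ) 1 = 6 from hdeg i]; ring
    · exact Finset.sum_congr rfl fun ψ hψ => by rw [hone, hnon ψ hψ y hy, sq]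
  have hN1 : 36 * (k : ℂ) + N₀ = 6 * (Nat.card T : ℂ) := by
    have h := second_orthogonality (1 : L) (1 : L)
    rw [if_pos (IsConj.refl _), hsplit, show Subgroup.centralizer ({(1 : L)} : Set L) = ⊤ from by
      ext z; simp [Subgroup.mem_centralizer_singleton_iff], Subgroup.card_top, hN] at h
    push_cast at h
    rw [← h, hN₀]
    congr 1
    · rw [Finset.sum_congr rfl (g := fun _ => (36 : ℂ)) fun i _ => by
          rw [hone, show ((e i).1 : L → ℂ) 1 = 6 from hdeg i]; norm_num,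
        Finset.sum_const, Finset.card_univ, Fintype.card_fin, nsmul_eq_mul, mul_comm]
    · exact Finset.sum_congr rfl fun ψ _ => by rw [hone, sq]
  have hN2 : 36 * (k : ℂ) = ((Nat.card T : ℂ) - 1) * N₀ := by
    have h : ∑ y : Kt, 6 * ∑ i, ξ i y = 0 := by
      rw [← Finset.mul_sum, Finset.sum_comm, Finset.sum_eq_zero fun i _ => hsumK i, mul_zero]
    rw [← Finset.add_sum_erase _ _ (Finset.mem_univ (1 : Kt)),
      Finset.sum_congr rfl (g := fun _ => -N₀) fun (y : Kt) hy => eq_neg_of_add_eq_zero_left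
        (hy6 (y : L) y.2 fun e => (Finset.mem_erase.1 hy).1 (Subtype.ext e)),
      Finset.sum_const, Finset.card_erase_of_mem (Finset.mem_univ _), Finset.card_univ,
      ← Nat.card_eq_fintype_card, hKcard, nsmul_eq_mul,
      Nat.cast_sub (show 1 ≤ Nat.card T by omega), Nat.cast_one] at h
    simp only [OneMemClass.coe_one, hdeg, Finset.sum_const, Finset.card_univ, Fintype.card_fin,
      nsmul_eq_mul] at h
    linear_combination h
  have hT0 : (Nat.card T : ℂ) ≠ 0 := natCard_ne_zero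
  have hN6 : N₀ = 6 := mul_left_cancel₀ hT0 (by linear_combination hN1 - hN2)
  have hkT : 6 * k + 1 = Nat.card T := by
    have : (6 : ℂ) * k + 1 = (Nat.card T : ℂ) := by linear_combination (hN1 - hN6) / 6
    exact_mod_cast this
  have hk2 : 2 ≤ k := by omega
  let i₀ : Fin k := ⟨0, by omega⟩
  -- coherence
  have hξmem : ∀ i, ξ i ∈ TI.nontrivOn L Kt := fun i => ⟨hξirr i, hrel i⟩
  obtain ⟨hiso, hiso1⟩ := TI.ind_isometry L Kt hC hTI (T := TI.nontrivOn L Kt) subset_rfl
  have hmemd : ∀ i, ξ i - ξ i₀ ∈ Cfsg.zspanOn (TI.nontrivOn L Kt) {1}ᶜ := fun i =>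
    mem_zspanOn_compl_one ((zS _).sub_mem (mem_zS (hξmem i)) (mem_zS (hξmem i₀)))
      (by simp [hdeg])
  set τ : Fin k → G → ℂ := fun i => Cfsg.indFun L (ξ i - ξ i₀) with hτdef
  have hξinner : ∀ i j, Cfsg.classInner (ξ i) (ξ j) = if i = j then 1 else 0 := fun i j => by
    split_ifs with h
    · rw [h]; exact classInner_isIrr_self (hξirr j)
    · exact classInner_isIrr_ne (hξirr i) (hξirr j) fun e => h (hξinj e)
  have hgram : ∀ i j, i ≠ i₀ → j ≠ i₀ → Cfsg.classInner (τ i) (τ j) = if i = j then 2 else 1 := by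
    intro i j hi hj
    rw [show Cfsg.classInner (τ i) (τ j) = Cfsg.classInner (ξ i - ξ i₀) (ξ j - ξ i₀) from
      hiso.2.2.1 _ (hmemd i) _ (hmemd j)]
    rw [classInner_sub_left, classInner_sub_right, classInner_sub_right, hξinner, hξinner, hξinner,
      hξinner, if_neg hi, if_neg (Ne.symm hj), if_pos rfl]
    split_ifs <;> norm_num
  obtain ⟨ε, hε, μf, hμ, hμinj, hτμ⟩ := exists_coherent_family i₀ τ
    (by simp only [hτdef, sub_self]; exact indFun_zero L)
    (fun i => hiso.2.2.2 _ (hmemd i)) (fun i => hiso1 _ (hmemd i)) hgram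
  obtain ⟨εi, hεi, rfl⟩ : ∃ z : ℤ, z * z = 1 ∧ ε = (z : ℂ) := by
    rcases hε with rfl | rfl
    · exact ⟨1, one_mul 1, by simp⟩
    · exact ⟨-1, by norm_num, by simp⟩
  have hε2 : (εi : ℂ) * εi = 1 := by exact_mod_cast hεi
  have hεne : (εi : ℂ) ≠ 0 := fun e => by simp [e] at hε2
  let μ : Fin k → Cfsg.IrrCharacter G := fun i => ⟨μf i, hμ i⟩
  have hμinj' : Function.Injective μ := fun i j h => hμinj (congrArg Subtype.val h)
  have hμinner : ∀ i j, Cfsg.classInner (μf i) (μf j) = if i = j then 1 else 0 := fun i j => by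
    split_ifs with h
    · rw [h]; exact classInner_isIrr_self (hμ j)
    · exact classInner_isIrr_ne (hμ i) (hμ j) fun e => h (hμinj e)
  have hvan : ∀ i, ∀ y : L, y ∉ Kt → ξ i y = 0 := fun i y hy =>
    TIFrobenius.vanish_off hC (hξirr i) (hrel i) hy
  have hfree : ∀ g : G, (∀ c : G, c⁻¹ * g * c ∈ T → c⁻¹ * g * c = 1) →
      ∀ i, μf i g = μf i₀ g := by
    intro g hg i
    have h0 : τ i g = 0 := by
      refine mul_left_cancel₀ (natCard_ne_zero (G := L)) ?_
      rw [mul_zero, hτdef, IndBasic.card_mul_indFun]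
      refine Finset.sum_eq_zero fun c _ => ?_
      by_cases hm : c⁻¹ * g * c ∈ L
      · rw [IndBasic.extendByZero_of_mem L _ hm, Pi.sub_apply]
        by_cases hk' : (⟨_, hm⟩ : L) ∈ Kt
        · have h1 : (⟨_, hm⟩ : L) = 1 := Subtype.ext (hg c hk')
          rw [h1, hdeg, hdeg, sub_self]
        · rw [hvan i _ hk', hvan i₀ _ hk', sub_self]
      · exact IndBasic.extendByZero_of_notMem L _ hm
    rw [hτμ, Pi.smul_apply, Pi.sub_apply, smul_eq_mul, mul_eq_zero, sub_eq_zero] at h0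
    exact h0.resolve_left hεne
  have honT : ∀ i, ∀ y : L, y ∈ Kt → y ≠ 1 →
      μf i (y : G) - μf i₀ (y : G) = (εi : ℂ) * (ξ i y - ξ i₀ y) := by
    intro i y hy hy1
    have h : τ i (y : G) = ξ i y - ξ i₀ y := by
      rw [hτdef]
      exact TI.ind_value L Kt hTI
        (isGen_isClassFunction (TI.isGen_of_mem L Kt hC (hmemd i).1))
        (fun z hz => by rw [Pi.sub_apply, hvan i z hz, hvan i₀ z hz, sub_self]) hy hy1
    rw [← h, hτμ, Pi.smul_apply, Pi.sub_apply, smul_eq_mul, ← mul_assoc, hε2, one_mul]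
  have hall : ∀ ψ : L → ℂ, Cfsg.IsIrrCharacter L ψ → TIFrobenius.Rel Kt ψ → ∃ i, ξ i = ψ :=
    fun ψ h1 h2 => ⟨e.symm ⟨⟨ψ, h1⟩, h2⟩, by simp [hξdef]⟩
  have hconst : ∀ f : L → ℂ, Cfsg.IsClassFunction L f →
      (∀ i, Cfsg.classInner f (ξ i) = Cfsg.classInner f (ξ i₀)) →
      ∃ c : ℂ, ∀ y ∈ Kt, y ≠ 1 → f y = c := fun f hf h =>
    TIFrobenius.const_of_proportional hf fun ψ ψ' h1 h2 h1' h2' => by
      obtain ⟨i, rfl⟩ := hall ψ h1 h2
      obtain ⟨j, rfl⟩ := hall ψ' h1' h2'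
      rw [h i, h j, hdeg, hdeg]
  have hres : ∀ χ : G → ℂ, Cfsg.IsClassFunction G χ → ∀ i,
      Cfsg.classInner (fun y : L => χ y) (ξ i) - Cfsg.classInner (fun y : L => χ y) (ξ i₀) =
        (εi : ℂ) * (Cfsg.classInner χ (μf i) - Cfsg.classInner χ (μf i₀)) := by
    intro χ hχ i
    rw [← classInner_sub_right, ← frobenius_reciprocity' L (ξ i - ξ i₀) hχ,
      show Cfsg.indFun L (ξ i - ξ i₀) = (εi : ℂ) • (μf i - μf i₀) from hτμ i,
      classInner_smul_right, classInner_sub_right, map_intCast]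
  have hto : ∀ (y : G) (hy : y ∈ T), y ≠ 1 → (⟨y, Subgroup.le_normalizer hy⟩ : L) ∈ Kt ∧
      (⟨y, Subgroup.le_normalizer hy⟩ : L) ≠ 1 := fun y hy hy1 =>
    ⟨hy, fun e => hy1 (congrArg Subtype.val e)⟩
  have hy0 : ∃ y : L, y ∈ Kt ∧ y ≠ 1 := by
    haveI : Nontrivial T := Finite.one_lt_card_iff_nontrivial.1 (by omega)
    obtain ⟨y, hy⟩ := exists_ne (1 : T)
    exact ⟨_, hto y y.2 fun e => hy (Subtype.ext e)⟩
  -- integrality of a value constant off one
  have hint : ∀ χ : Cfsg.IrrCharacter G, ∀ (a : ℤ) (c : ℂ) (η : L → ℂ),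
      (∑ y : Kt, η y = 0) → (η 1 = (a : ℂ)) → (∀ y : L, IsIntegral ℤ (η y)) →
      (∀ y ∈ Kt, y ≠ 1 → (χ : G → ℂ) y = η y + c) →
      ∃ n : ℤ, c = (n : ℂ) ∧ ∀ D : ℕ, (χ : G → ℂ) 1 = (D : ℂ) →
        (Nat.card T : ℤ) ∣ (D : ℤ) - a - n := by
    intro χ a c η hη hη1 hηint hval
    obtain ⟨D, hD⟩ := char_one_nat (irr_isCharacter χ)
    obtain ⟨b, hb⟩ := classInner_char_nat
      (isCharacter_restrict Kt (isCharacter_restrict L (irr_isCharacter χ)))
      (isCharacter_one (G := Kt))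
    rw [classInner_def, inv_mul_eq_iff_eq_mul₀ natCard_ne_zero, hKcard] at hb
    simp only [map_one, mul_one] at hb
    rw [← Finset.add_sum_erase _ _ (Finset.mem_univ (1 : Kt))] at hb hη
    simp only [OneMemClass.coe_one, hD, hη1] at hb hη
    rw [Finset.sum_congr rfl (g := fun y : Kt => η y + c) fun y hy =>
        hval y y.2 fun e => (Finset.mem_erase.1 hy).1 (Subtype.ext e),
      Finset.sum_add_distrib, Finset.sum_const, Finset.card_erase_of_mem (Finset.mem_univ _),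
      Finset.card_univ, ← Nat.card_eq_fintype_card, hKcard, nsmul_eq_mul,
      Nat.cast_sub (show 1 ≤ Nat.card T by omega), Nat.cast_one] at hb
    have hint : IsIntegral ℤ c := by
      obtain ⟨y, hy, hy1⟩ := hy0
      rw [show c = (χ : G → ℂ) y - η y by rw [hval y hy hy1]; ring]
      exact (char_value_isIntegral (irr_isCharacter χ) _).sub (hηint y)
    obtain ⟨n, rfl⟩ := int_of_const (t := (Nat.card T : ℤ)) (a := (b : ℤ)) (d := (D : ℤ) - a)
      (by omega) hint (by push_cast; linear_combination hb - hη)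
    refine ⟨n, rfl, fun D' hD' => ⟨(b : ℤ) - n, ?_⟩⟩
    have hDD : (D' : ℂ) = (D : ℂ) := hD'.symm.trans hD
    have : ((D' : ℤ) : ℂ) - a - n = ((Nat.card T : ℤ) : ℂ) * (((b : ℤ) : ℂ) - n) := by
      push_cast; linear_combination hb - hη + hDD
    exact_mod_cast this
  -- the value of the first member
  obtain ⟨c0, hc0⟩ := hconst ((fun y : L => μf i₀ y) - (εi : ℂ) • ξ i₀)
    (fun a b => by
      simp only [Pi.sub_apply, Pi.smul_apply, smul_eq_mul,
        char_isClassFunction (isCharacter_of_isIrr (hξirr i₀)) a b]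
      congr 1
      show μf i₀ ((b * a * b⁻¹ : L) : G) = _
      simp only [Subgroup.coe_mul, Subgroup.coe_inv]
      exact char_isClassFunction (isCharacter_of_isIrr (hμ i₀)) _ _)
    fun i => by
      have h := hres (μf i₀) (char_isClassFunction (isCharacter_of_isIrr (hμ i₀))) i
      rw [classInner_sub_left, classInner_sub_left, classInner_smul_left, classInner_smul_left,
        hξinner, hξinner, if_pos rfl]
      rw [hμinner, hμinner, if_pos rfl] at h
      by_cases hi : i₀ = i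
      · subst hi; rw [if_pos rfl]
      · rw [if_neg hi] at h ⊢
        linear_combination h
  have hc0' : ∀ y ∈ Kt, y ≠ 1 → μf i₀ (y : G) = (εi : ℂ) * ξ i₀ y + c0 := fun y hy hy1 => by
    have := hc0 y hy hy1
    simp only [Pi.sub_apply, Pi.smul_apply, smul_eq_mul] at this
    linear_combination this
  have hξint : ∀ i, ∀ y : L, IsIntegral ℤ ((εi : ℂ) * ξ i y) := fun i y =>
    (isIntegral_algebraMap (R := ℤ) (x := εi)).mul
      (char_value_isIntegral (isCharacter_of_isIrr (hξirr i)) y)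
  obtain ⟨M, rfl, -⟩ := hint (μ i₀) (6 * εi) c0 (fun y => (εi : ℂ) * ξ i₀ y)
    (by rw [← Finset.mul_sum, hsumK, mul_zero]) (by rw [hdeg]; push_cast; ring) (hξint i₀) hc0'
  have hvalT : ∀ i, ∀ y ∈ Kt, y ≠ 1 → μf i (y : G) = (εi : ℂ) * ξ i y + (M : ℂ) :=
    fun i y hy hy1 => by linear_combination honT i y hy hy1 + hc0' y hy hy1
  refine ⟨k, μ, εi, M, hμinj', hkT, hεi, fun g hg i j => ?_, fun i D hD => ?_,
    fun y hy hy1 => ?_, fun χ hχ => ?_⟩
  · exact (hfree g hg i).trans (hfree g hg j).symm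
  · obtain ⟨n, hn, hdiv⟩ := hint (μ i) (6 * εi) (M : ℂ) (fun y => (εi : ℂ) * ξ i y)
      (by rw [← Finset.mul_sum, hsumK, mul_zero]) (by rw [hdeg]; push_cast; ring) (hξint i)
      (hvalT i)
    rw [Int.cast_inj] at hn
    subst hn
    exact hdiv D hD
  · obtain ⟨hm, hm1⟩ := hto y hy hy1
    set Y : L := ⟨y, Subgroup.le_normalizer hy⟩
    have hs1 : ∑ i, ξ i Y = -1 := by linear_combination (hy6 Y hm hm1 - hN6) / 6
    have hs2 : ∑ i, ξ i Y * conj (ξ i Y) = (Nat.card T : ℂ) - 6 := by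
      have h := second_orthogonality Y Y
      rw [if_pos (IsConj.refl _), hsplit, hcentL Y hm hm1, hKcard,
        Finset.sum_congr rfl (g := fun ψ : Cfsg.IrrCharacter L => ((ψ : L → ℂ) 1) ^ 2)
          fun ψ hψ => by rw [hnon ψ hψ Y hm, hone, sq], ← hN₀, hN6] at h
      linear_combination h
    apply Complex.ofReal_injective
    push_cast
    have hterm : ∀ i, ((‖(μ i : G → ℂ) y‖ : ℝ) : ℂ) ^ 2 = ξ i Y * conj (ξ i Y) +
        (εi : ℂ) * (M : ℂ) * (ξ i Y + conj (ξ i Y)) + (M : ℂ) ^ 2 := by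
      intro i
      rw [← Complex.mul_conj', show (μ i : G → ℂ) y = μf i (Y : G) from rfl, hvalT i Y hm hm1,
        map_add, map_mul, map_intCast, map_intCast]
      linear_combination (ξ i Y * conj (ξ i Y)) * hε2
    rw [Finset.sum_congr rfl fun i _ => hterm i, Finset.sum_add_distrib, Finset.sum_add_distrib,
      Finset.sum_const, Finset.card_univ, Fintype.card_fin, ← Finset.mul_sum,
      Finset.sum_add_distrib, ← map_sum, hs1, hs2, map_neg, map_one, nsmul_eq_mul]
    ring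
  · obtain ⟨c, hc⟩ := hconst (fun y : L => (χ : G → ℂ) y)
      (fun a b => by
        show (χ : G → ℂ) ((b * a * b⁻¹ : L) : G) = _
        simp only [Subgroup.coe_mul, Subgroup.coe_inv]
        exact irr_isClassFunction χ _ _)
      fun i => by
        have h := hres (χ : G → ℂ) (irr_isClassFunction χ) i
        rw [classInner_isIrr_ne χ.2 (hμ i) fun e => hχ i (Subtype.ext e),
          classInner_isIrr_ne χ.2 (hμ i₀) fun e => hχ i₀ (Subtype.ext e), sub_zero, mul_zero,
          sub_eq_zero] at h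
        exact h
    obtain ⟨n, rfl, -⟩ := hint χ 0 c (fun _ => 0) (by simp) (by simp) (fun _ => isIntegral_zero)
      (fun y hy hy1 => by rw [zero_add]; exact hc y hy hy1)
    exact ⟨n, fun y hy hy1 => hc ⟨y, Subgroup.le_normalizer hy⟩ hy
      fun e => hy1 (congrArg Subtype.val e)⟩

end Cfsg.Agent.Ree.Cover
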