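import Cfsg.Agent.Lib.Ree.Cover.Perm
import Cfsg.Agent.Lib.Ree.Cover.Exceptional

/-!
The exceptional characters have no fixed vectors on the Sylow subgroup.
-/

set_option autoImplicit false
set_option linter.unusedSectionVars false
set_option linter.style.haveILetI false

open scoped Matrix Pointwise MatrixGroups ComplexConjugate

namespace Cfsg.Agent.Ree.Cover

open Cfsg.Lie Cfsg.Agent.Chevalley Cfsg.Agent.Chevalley.Cert Cfsg.Agent.Chevalley.Group
  Cfsg.Agent.Chevalley.Twist Cfsg.Agent.Chevalley.Twist.G2 Cfsg.Agent.Chevalley.SL2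
open Cfsg.Agent.Characters

variable {K : Type*} [Field K] [Fintype K] [CharP K 3] {m : ℕ}

local notation "GG" => twistedG2 K (3 ^ m)
local notation "qq" => Fintype.card K

variable {hK : Fintype.card K = 3 ^ (2 * m + 1)} (X : Setup (K := K) hK)
include X

theorem bor_unique {p p' : K × K × K} {x x' : Kˣ}
    (h : uu X p * torusHom X x = uu X p' * torusHom X x') : x = x' := by
  obtain ⟨t, u, v, e⟩ := mem_UB X (mul_mem (inv_mem (uu_mem X p')) (uu_mem X p))
  have h2 : uu X (t, u, v) = torusHom X (x' * x⁻¹) := by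
    rw [← e, map_mul, map_inv, eq_mul_inv_iff_mul_eq, mul_assoc, h, inv_mul_cancel_left]
  exact (mul_inv_eq_one.1 (uu_eq_tor X h2).2).symm

/-- The torus part of an element of the Borel subgroup. -/
noncomputable def torPart (b : bor X) : Kˣ :=
  Classical.choose (Classical.choose_spec (bor_decomp X b.2))

theorem torPart_spec (b : bor X) : ∃ p, (b : GG) = uu X p * torusHom X (torPart X b) :=
  ⟨_, Classical.choose_spec (Classical.choose_spec (bor_decomp X b.2))⟩

/-- The projection of the Borel subgroup onto its torus. -/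
noncomputable def borProj : bor X →* Kˣ :=
  MonoidHom.mk' (torPart X) (by
    intro a b
    obtain ⟨pa, ha⟩ := torPart_spec X a
    obtain ⟨pb, hb⟩ := torPart_spec X b
    obtain ⟨pab, hab⟩ := torPart_spec X (a * b)
    obtain ⟨t, u, v, e⟩ :=
      mem_UB X (mul_mem (uu_mem X pa) (tor_conj_mem X (torPart X a) (uu_mem X pb)))
    refine bor_unique X (hab.symm.trans (?_ : ((a * b : bor X) : GG) = uu X (t, u, v) * _))
    rw [Subgroup.coe_mul, ha, hb, ← e, map_mul]
    group)

theorem borProj_spec (b : bor X) : ∃ p, (b : GG) = uu X p * torusHom X (borProj X b) :=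
  torPart_spec X b

theorem borProj_tor (y : Kˣ) : borProj X ⟨torusHom X y, tor_mem_bor X y⟩ = y := by
  obtain ⟨p, hp⟩ := borProj_spec X ⟨torusHom X y, tor_mem_bor X y⟩
  refine (bor_unique X (p := 0) (p' := p) ?_).symm
  rw [show uu X (0 : K × K × K) = 1 from uu_zero X, one_mul]
  exact hp

variable {Φ : SL(2, K) →* ↥(twistedG2 K (3 ^ m))} (hΦ : IsEmbed X Φ)
include hΦ

theorem bor_free (hm : 1 ≤ m) {T : Subgroup GG} (hT : IsSix T) {b : GG} (hb : b ∈ bor X) (c : GG)
    (hc : c⁻¹ * b * c ∈ T) : c⁻¹ * b * c = 1 := by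
  by_contra h1
  have hs : c⁻¹ * b * c ∈ sixSet K m := regSix_subset X hΦ hm hT ⟨1, by
    rw [inv_one, one_mul, mul_one]; exact ⟨hc, h1⟩⟩
  obtain ⟨l, hl, hlg⟩ := Nat.exists_prime_and_dvd (fun e => hs.1 (orderOf_eq_one_iff.1 e))
  obtain ⟨h3, hq, hq1, -⟩ := six_sep X hl (hs.2 l hl hlg)
  rw [orderOf_conj X] at hlg
  have hd := hlg.trans (Subgroup.orderOf_dvd_natCard _ hb)
  rw [card_bor X] at hd
  rcases hl.dvd_mul.1 hd with h | h
  · exact hq (hl.dvd_of_dvd_pow h)
  · exact hq1 h

variable [Fintype ↥(twistedG2 K (3 ^ m))]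
  [Fintype (Cfsg.IrrCharacter ↥(twistedG2 K (3 ^ m)))]

theorem linear_perp (hm : 1 ≤ m) {T : Subgroup GG} (hT : IsSix T) {k : ℕ}
    {μ : Fin k → Cfsg.IrrCharacter GG} {ε M : ℤ} (hE : Excep T k μ ε M) (hk : 3 ≤ k)
    [Fintype (bor X)] {f : bor X → ℂ} (hf : Cfsg.IsCharacter (bor X) f) (hf1 : f 1 = 1)
    (i : Fin k) : ∑ b : bor X, (μ i : GG → ℂ) b * conj (f b) = 0 := by
  classical
  have hn : ∀ j, Cfsg.classInner (fun b : bor X => (μ j : GG → ℂ) b) f =
      Cfsg.classInner (fun b : bor X => (μ i : GG → ℂ) b) f := fun j => by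
    rw [classInner_def, classInner_def]
    refine congrArg _ (Finset.sum_congr rfl fun b _ => ?_)
    rw [hE.free b (fun c hc => bor_free X hΦ hm hT b.2 c hc) j i]
  obtain ⟨n, hn'⟩ := classInner_char_nat (isCharacter_restrict (bor X) (irr_isCharacter (μ i))) hf
  set F := Cfsg.indFun (bor X) f with hF
  have hFc : Cfsg.IsCharacter GG F := isCharacter_indFun _ hf
  have hval : ∀ j, Cfsg.classInner (μ j : GG → ℂ) F = (n : ℂ) := fun j => by
    rw [hF, frobenius_reciprocity' _ _ (irr_isClassFunction (μ j)), hn j, hn']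
  have hnorm : ∀ g, ‖F g‖ ≤ ‖permChar X g‖ := by
    intro g
    have hcard : (0 : ℝ) < Nat.card (bor X) := Nat.cast_pos.2 Nat.card_pos
    refine le_of_mul_le_mul_left ?_ hcard
    rw [← Complex.norm_natCast, ← norm_mul, ← norm_mul, hF, permChar,
      CharTheory.IndBasic.card_mul_indFun, CharTheory.IndBasic.card_mul_indFun]
    refine (norm_sum_le _ _).trans (le_of_eq ?_)
    have key : ∀ c : GG, Cfsg.extendByZero (bor X) (fun _ => (1 : ℂ)) (c⁻¹ * g * c) =
        ((‖Cfsg.extendByZero (bor X) f (c⁻¹ * g * c)‖ : ℝ) : ℂ) := fun c => by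
      by_cases hc : c⁻¹ * g * c ∈ bor X
      · rw [CharTheory.IndBasic.extendByZero_of_mem _ _ hc,
          CharTheory.IndBasic.extendByZero_of_mem _ _ hc]
        have h := congrArg (fun z : ℂ => ‖z‖)
          (show f ⟨_, hc⟩ * conj (f ⟨_, hc⟩) = 1 by
            rw [← char_inv hf, ← char_mul_of_degree_one hf hf1, mul_inv_cancel, hf1])
        simp only [norm_mul, Complex.norm_conj, norm_one] at h
        rcases mul_self_eq_one_iff.1 h with h' | h'
        · rw [h', Complex.ofReal_one]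
        · exact absurd h' (by linarith [norm_nonneg (f ⟨_, hc⟩)])
      · rw [CharTheory.IndBasic.extendByZero_of_notMem _ _ hc,
          CharTheory.IndBasic.extendByZero_of_notMem _ _ hc, norm_zero, Complex.ofReal_zero]
    rw [Finset.sum_congr rfl fun c _ => key c, ← Complex.ofReal_sum, Complex.norm_real,
      Real.norm_of_nonneg (Finset.sum_nonneg fun _ _ => norm_nonneg _)]
  obtain ⟨N, hN⟩ := classInner_char_nat hFc hFc
  have e1 : ∀ φ : GG → ℂ, Cfsg.classInner φ φ =
      (((Nat.card GG : ℝ)⁻¹ * ∑ g, ‖φ g‖ ^ 2 : ℝ) : ℂ) := fun φ => by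
    rw [classInner_def]; push_cast
    simp only [Complex.mul_conj']
  have hN2 : (N : ℝ) ≤ 2 := by
    have h1 : ((N : ℝ) : ℂ) = (((Nat.card GG : ℝ)⁻¹ * ∑ g, ‖F g‖ ^ 2 : ℝ) : ℂ) := by
      rw [← e1, hN]; norm_num
    have h2 : ((2 : ℝ) : ℂ) = (((Nat.card GG : ℝ)⁻¹ * ∑ g, ‖permChar X g‖ ^ 2 : ℝ) : ℂ) := by
      rw [← e1, permChar_norm X]; norm_num
    rw [Complex.ofReal_inj.1 h1, Complex.ofReal_inj.1 h2]
    exact mul_le_mul_of_nonneg_left
      (Finset.sum_le_sum fun g _ => pow_le_pow_left₀ (norm_nonneg _) (hnorm g) 2) (by positivity)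
  have hbes : (k : ℝ) * (n : ℝ) ^ 2 ≤ N := by
    have h := classInner_eq_sum F (char_isClassFunction hFc)
    rw [hN, Finset.sum_congr rfl (g := fun ψ : Cfsg.IrrCharacter GG =>
      ((‖Cfsg.classInner F (ψ : GG → ℂ)‖ ^ 2 : ℝ) : ℂ)) (fun ψ _ => by
        rw [classInner_conj_symm F (ψ : GG → ℂ), Complex.mul_conj']
        push_cast; rfl), ← Complex.ofReal_sum, ← Complex.ofReal_natCast, Complex.ofReal_inj] at h
    rw [h]
    refine le_trans (le_of_eq ?_) (Finset.sum_le_univ_sum_of_nonneg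
      (s := Finset.univ.image μ) fun _ => by positivity)
    rw [Finset.sum_image fun a _ b _ hab => hE.inj hab,
      Finset.sum_congr rfl (g := fun _ => (n : ℝ) ^ 2) fun j _ => by
        rw [classInner_conj_symm (μ j : GG → ℂ) F, Complex.norm_conj, hval, Complex.norm_natCast],
      Finset.sum_const, Finset.card_univ, Fintype.card_fin, nsmul_eq_mul]
  have hk' : (3 : ℝ) ≤ k := by exact_mod_cast hk
  have hn0 : n = 0 := by
    by_contra hne
    have : (1 : ℝ) ≤ (n : ℝ) ^ 2 := by
      have : (1 : ℝ) ≤ n := by exact_mod_cast Nat.one_le_iff_ne_zero.2 hne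
      nlinarith
    nlinarith
  rw [hn0, Nat.cast_zero, classInner_def, mul_eq_zero, inv_eq_zero] at hn'
  exact hn'.resolve_left natCard_ne_zero

/-- The degree of an exceptional character is divisible by half the order of the split torus. -/
theorem pred_dvd_two_mul (hm : 1 ≤ m) {T : Subgroup GG} (hT : IsSix T) {k : ℕ}
    {μ : Fin k → Cfsg.IrrCharacter GG} {ε M : ℤ} (hE : Excep T k μ ε M) (hk : 3 ≤ k) (i : Fin k)
    {D : ℕ} (hD : (μ i : GG → ℂ) 1 = (D : ℂ)) : qq - 1 ∣ 2 * D := by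
  classical
  haveI := Fintype.ofFinite (bor X)
  haveI := Fintype.ofFinite (Cfsg.IrrCharacter Kˣ)
  set χ : GG → ℂ := (μ i : GG → ℂ) with hχ
  have hcomm : ∀ a b : Kˣ, a * b = b * a := fun a b => mul_comm a b
  have horth : ∀ ψ : Cfsg.IrrCharacter Kˣ,
      ∑ b : bor X, χ b * conj ((ψ : Kˣ → ℂ) (borProj X b)) = 0 := fun ψ =>
    linear_perp X hΦ hm hT hE hk (isCharacter_comp (borProj X) (irr_isCharacter ψ))
      (by rw [Function.comp_apply, map_one]; exact irr_degree_one_of_comm hcomm ψ.2) i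
  have hfib : ∀ y : Kˣ, ∑ b ∈ Finset.univ.filter (fun b : bor X => borProj X b = y), χ b = 0 := by
    intro y
    have h : ∑ ψ : Cfsg.IrrCharacter Kˣ, (ψ : Kˣ → ℂ) y *
        ∑ b : bor X, χ b * conj ((ψ : Kˣ → ℂ) (borProj X b)) = 0 :=
      Finset.sum_eq_zero fun ψ _ => by rw [horth ψ, mul_zero]
    simp only [Finset.mul_sum] at h
    rw [Finset.sum_comm, Finset.sum_congr rfl (g := fun b : bor X =>
      χ b * if borProj X b = y then (Nat.card Kˣ : ℂ) else 0) fun b _ => ?_] at h
    · simp only [mul_ite, mul_zero, ← Finset.sum_filter, ← Finset.sum_mul] at h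
      exact (mul_eq_zero.1 h).resolve_right natCard_ne_zero
    · have h2 := second_orthogonality y (borProj X b)
      rw [Finset.sum_congr rfl (g := fun ψ : Cfsg.IrrCharacter Kˣ =>
          χ b * ((ψ : Kˣ → ℂ) y * conj ((ψ : Kˣ → ℂ) (borProj X b)))) fun ψ _ => by ring,
        ← Finset.mul_sum, h2]
      congr 1
      by_cases hby : borProj X b = y
      · rw [if_pos hby, if_pos (hby ▸ IsConj.refl _)]
        congr 1
        rw [show Subgroup.centralizer ({borProj X b} : Set Kˣ) = ⊤ from by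
          ext z; simp [Subgroup.mem_centralizer_singleton_iff, mul_comm], Subgroup.card_top]
      · rw [if_neg hby, if_neg fun hc => hby (isConj_iff_eq.1 hc).symm]
  have hreg : ∀ y : Kˣ, y ^ 2 ≠ 1 → χ (torusHom X y) = 0 := by
    intro y hy
    have h := hfib y
    rw [Finset.sum_congr rfl (g := fun _ => χ (torusHom X y)) fun b hb => ?_, Finset.sum_const,
      nsmul_eq_mul, mul_eq_zero, Nat.cast_eq_zero, Finset.card_eq_zero] at h
    · refine h.resolve_left fun he => ?_
      have : (⟨torusHom X y, tor_mem_bor X y⟩ : bor X) ∈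
          Finset.univ.filter (fun b : bor X => borProj X b = y) :=
        Finset.mem_filter.2 ⟨Finset.mem_univ _, borProj_tor X y⟩
      rw [he] at this
      exact Finset.notMem_empty _ this
    · obtain ⟨p, hp⟩ := borProj_spec X b
      rw [(Finset.mem_filter.1 hb).2] at hp
      obtain ⟨p', hp'⟩ := reg_coset X hy p
      rw [hp, hp']
      exact irr_isClassFunction (μ i) (torusHom X y) (uu X p')
  have hsum : ∀ ψ : Kˣ → ℂ, ∑ y : Kˣ, χ (torusHom X y) * conj (ψ y) =
      χ 1 * conj (ψ 1) + χ (torusHom X (-1)) * conj (ψ (-1)) := by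
    intro ψ
    rw [Finset.sum_eq_add (1 : Kˣ) (-1) (fun e => neg_one_ne_one (K := K)
      (congrArg Units.val e).symm) (fun y _ hy => ?_) (by simp) (by simp), map_one]
    rw [hreg y ?_, zero_mul]
    intro h2
    rcases sq_eq_one_iff.1 (show (y : K) ^ 2 = 1 by
      rw [← Units.val_pow_eq_pow_val, h2, Units.val_one]) with h | h
    · exact hy.1 (Units.ext h)
    · exact hy.2 (Units.ext (by rw [h]; simp))
  have hres : Cfsg.IsCharacter Kˣ (χ ∘ torusHom X) :=
    isCharacter_comp (torusHom X) (irr_isCharacter (μ i))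
  have hne : (-1 : Kˣ) ≠ 1 := fun e => neg_one_ne_one (K := K) (congrArg Units.val e)
  obtain ⟨ψ, hψ, hψne⟩ := exists_irr_ne hne
  have hψ1 : ψ 1 = 1 := irr_degree_one_of_comm hcomm hψ
  have hψc := isCharacter_of_isIrr hψ
  have hψm : ψ (-1) = -1 := by
    have h := char_mul_of_degree_one hψc hψ1 (-1) (-1)
    rw [neg_one_mul, neg_neg, hψ1] at h
    rcases mul_self_eq_one_iff.1 h.symm with h' | h'
    · exact absurd (h'.trans hψ1.symm) hψne
    · exact h'
  obtain ⟨a, ha⟩ := classInner_char_nat hres isCharacter_one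
  obtain ⟨b, hb⟩ := classInner_char_nat hres hψc
  rw [classInner_def, inv_mul_eq_iff_eq_mul₀ natCard_ne_zero] at ha hb
  simp only [Function.comp_apply, hsum, hψ1, hψm, map_one, mul_one, map_neg] at ha hb
  have h1 := hsum fun _ => 1
  simp only [map_one, mul_one] at h1
  rw [h1] at ha
  have hcardK : Nat.card Kˣ = qq - 1 := by rw [Nat.card_units, Nat.card_eq_fintype_card]
  refine ⟨a + b, ?_⟩
  have : ((2 * D : ℕ) : ℂ) = (((qq - 1) * (a + b) : ℕ) : ℂ) := by
    rw [← hcardK]; push_cast; rw [← hD]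
    linear_combination ha + hb
  exact_mod_cast this

end Cfsg.Agent.Ree.Cover
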