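import Mathlib

/-!
The degree of the exceptional characters is large.
-/

set_option autoImplicit false

namespace Cfsg.Agent.Ree.Cover.Arith

/-- The small case. -/
theorem small_case : ∀ w, w < 281 → 55 ≤ w → w ∣ 19683 * 19684 * 26 / 13 →
    (13 * w + 6) % 37 ≠ 0 ∧ (13 * w + 31) % 37 ≠ 0 ∧ (13 * w + 7) % 37 ≠ 0 ∧
      (13 * w + 30) % 37 ≠ 0 := by
  decide +kernel

/-- The finitely many cases left by the divisor bound. -/
theorem finite_case : ∀ m, m < 8 → 2 ≤ m → ∀ i, i < 12 → 1 ≤ i →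
    ¬ (i * (3 ^ (2 * m + 1) + 3 ^ (m + 1) + 1) + 12 * (3 ^ (m + 1) + 1) ∣
      2 * (3 ^ (2 * m + 1)) ^ 3 * (3 ^ (2 * m + 1) + 1) * (3 ^ (2 * m + 1) - 3 ^ (m + 1) + 1)) ∧
    ¬ (i * (3 ^ (2 * m + 1) + 3 ^ (m + 1) + 1) - 12 * (3 ^ (m + 1) + 1) ∣
      2 * (3 ^ (2 * m + 1)) ^ 3 * (3 ^ (2 * m + 1) + 1) * (3 ^ (2 * m + 1) - 3 ^ (m + 1) + 1)) := by
  decide +kernel

theorem gcd_le {w : ℤ} {a N : ℕ} (h : (Nat.gcd a N : ℤ) ∣ w) (hw : 0 < w) :
    (Nat.gcd a N : ℤ) ≤ w :=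
  Int.le_of_dvd hw h

/-- Divisors in the large case are bounded. -/
theorem divisor_bound {m : ℕ} (hm : 2 ≤ m) {q r t t' w i : ℕ} (hq : q = 3 ^ (2 * m + 1))
    (hr : r = 3 ^ (m + 1)) (ht : t = q + r + 1) (ht' : (t' : ℤ) = (q : ℤ) - r + 1) (hi : i ≤ 11)
    (hi1 : 1 ≤ i) {ε : ℤ} (hε : ε = 1 ∨ ε = -1)
    (hw : (w : ℤ) = i * t + 12 * ε * ((r : ℤ) + 1))
    (hdiv : w ∣ 2 * q ^ 3 * (q + 1) * t') : w ≤ 18 * 1731 * 4836 := by
  have hr2 : (r : ℤ) * r = 3 * q := by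
    have : r * r = 3 * q := by rw [hq, hr, ← pow_add, ← pow_succ']; congr 1; omega
    exact_mod_cast this
  have ht2 : (t : ℤ) = (q : ℤ) + r + 1 := by rw [ht]; push_cast; ring
  have hε2 : ε * ε = 1 := by rcases hε with rfl | rfl <;> norm_num
  have hεb : -1 ≤ ε ∧ ε ≤ 1 := by omega
  have hq0 : 0 < q := by rw [hq]; positivity
  -- the factor at `q + 1`
  have hA : Nat.gcd w (q + 1) ≤ 1731 := by
    set g := Nat.gcd w (q + 1)
    have hgw : (g : ℤ) ∣ (w : ℤ) := Int.natCast_dvd_natCast.2 (Nat.gcd_dvd_left _ _)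
    have hgq : (g : ℤ) ∣ (q : ℤ) + 1 := by
      exact_mod_cast Nat.gcd_dvd_right w (q + 1)
    set a : ℤ := (i : ℤ) + 12 * ε with ha
    have key : (g : ℤ) ∣ 3 * a ^ 2 + 144 := by
      have e : 3 * a ^ 2 + 144 = 3 * a ^ 2 * ((q : ℤ) + 1) -
          ((w : ℤ) - i * ((q : ℤ) + 1)) * (a * r - 12 * ε) := by
        linear_combination (a * r - 12 * ε) * hw + (a * r - 12 * ε) * (i : ℤ) * ht2 +
          a ^ 2 * hr2 - 144 * hε2
      rw [e]
      exact dvd_sub (dvd_mul_of_dvd_right hgq _)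
        (dvd_mul_of_dvd_left (dvd_sub hgw (dvd_mul_of_dvd_right hgq _)) _)
    have hle := Int.le_of_dvd (by positivity) key
    have : a ^ 2 ≤ 23 ^ 2 := sq_le_sq' (by omega) (by omega)
    omega
  -- the factor at the other torus
  have hB : Nat.gcd w t' ≤ 4836 := by
    set g := Nat.gcd w t'
    have hgw : (g : ℤ) ∣ (w : ℤ) := Int.natCast_dvd_natCast.2 (Nat.gcd_dvd_left _ _)
    have hgt : (g : ℤ) ∣ (t' : ℤ) := Int.natCast_dvd_natCast.2 (Nat.gcd_dvd_right _ _)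
    set a : ℤ := 2 * (i : ℤ) + 12 * ε with ha
    set b : ℤ := 12 * ε with hb
    have key : (g : ℤ) ∣ 3 * a ^ 2 + 3 * a * b + b ^ 2 := by
      have e : 3 * a ^ 2 + 3 * a * b + b ^ 2 =
          ((w : ℤ) - i * (t' : ℤ)) * (a * (3 - r) + b) + 3 * a ^ 2 * (t' : ℤ) := by
        linear_combination (-(a * (3 - (r : ℤ)) + b)) * hw + (-(a * (3 - (r : ℤ)) + b)) * (i : ℤ) * ht2 +
          ((i : ℤ) * (a * (3 - (r : ℤ)) + b) - 3 * a ^ 2) * ht' + a ^ 2 * hr2
      rw [e]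
      exact dvd_add (dvd_mul_of_dvd_left (dvd_sub hgw (dvd_mul_of_dvd_right hgt _)) _)
        (dvd_mul_of_dvd_right hgt _)
    have hb2 : b ^ 2 = 144 := by rw [hb]; linear_combination 144 * hε2
    have hpos : 0 < 3 * a ^ 2 + 3 * a * b + b ^ 2 := by nlinarith [sq_nonneg (2 * a + b), hb2]
    have hle := Int.le_of_dvd hpos key
    have h1 : a ^ 2 ≤ 34 ^ 2 := sq_le_sq' (by omega) (by omega)
    have h2 : a * b ≤ 408 := by nlinarith [sq_nonneg (a - 34 * ε), hb2, hε2]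
    nlinarith
  -- the factor at `2 q ^ 3`
  have hC : Nat.gcd w (2 * q ^ 3) ≤ 18 := by
    have h3 : Nat.gcd w (q ^ 3) ≤ 9 := by
      rw [hq, ← pow_mul]
      obtain ⟨j, -, hj⟩ := (Nat.dvd_prime_pow Nat.prime_three).1
        (Nat.gcd_dvd_right w (3 ^ ((2 * m + 1) * 3)))
      rw [hj]
      by_contra hlt
      have h27 : 3 ^ 3 ∣ w := by
        refine dvd_trans (pow_dvd_pow 3 ?_) (hj ▸ Nat.gcd_dvd_left _ _)
        by_contra hj3
        exact hlt (le_trans (Nat.pow_le_pow_right (by norm_num) (by omega : j ≤ 2)) (by norm_num))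
      have hq27 : (27 : ℤ) ∣ (q : ℤ) := by
        rw [hq]; exact_mod_cast (pow_dvd_pow 3 (by omega : 3 ≤ 2 * m + 1))
      have hr27 : (27 : ℤ) ∣ (r : ℤ) := by
        rw [hr]; exact_mod_cast (pow_dvd_pow 3 (by omega : 3 ≤ m + 1))
      have hw27 : (27 : ℤ) ∣ (w : ℤ) := by exact_mod_cast h27
      have : (27 : ℤ) ∣ (i : ℤ) + 12 * ε := by
        have e : (i : ℤ) + 12 * ε = (w : ℤ) - i * (q : ℤ) - ((i : ℤ) + 12 * ε) * r := by
          linear_combination -hw - (i : ℤ) * ht2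
        rw [e]
        exact dvd_sub (dvd_sub hw27 (dvd_mul_of_dvd_right hq27 _)) (dvd_mul_of_dvd_right hr27 _)
      omega
    have := Nat.le_of_dvd (Nat.mul_pos (Nat.gcd_pos_of_pos_right w two_pos)
      (Nat.gcd_pos_of_pos_right w (pow_pos hq0 3))) (Nat.gcd_mul_right_dvd_mul_gcd w 2 (q ^ 3))
    calc Nat.gcd w (2 * q ^ 3) ≤ Nat.gcd w 2 * Nat.gcd w (q ^ 3) := this
      _ ≤ 2 * 9 := Nat.mul_le_mul (Nat.le_of_dvd two_pos (Nat.gcd_dvd_right _ _)) h3
  have ht'0 : 0 < t' := by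
    by_contra h
    have h0 : t' = 0 := by omega
    rw [h0] at ht'
    push_cast at ht'
    have : r ≤ q := by rw [hr, hq]; exact Nat.pow_le_pow_right (by norm_num) (by omega)
    omega
  have hd : w ∣ Nat.gcd w (2 * q ^ 3) * Nat.gcd w (q + 1) * Nat.gcd w t' := by
    have h1 := Nat.gcd_mul_right_dvd_mul_gcd w (2 * q ^ 3 * (q + 1)) t'
    rw [Nat.gcd_eq_left hdiv] at h1
    exact h1.trans (Nat.mul_dvd_mul_right (Nat.gcd_mul_right_dvd_mul_gcd w (2 * q ^ 3) (q + 1)) _)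
  refine (Nat.le_of_dvd ?_ hd).trans (Nat.mul_le_mul (Nat.mul_le_mul hC hA) hB)
  exact Nat.mul_pos (Nat.mul_pos (Nat.gcd_pos_of_pos_right _ (by positivity))
    (Nat.gcd_pos_of_pos_right _ (by omega))) (Nat.gcd_pos_of_pos_right _ ht'0)

/-- The degree is at least five times the square of the field order. -/
theorem degree_big {m D k : ℕ} (hm : 1 ≤ m) {q r : ℕ} (hq : q = 3 ^ (2 * m + 1))
    (hr : r = 3 ^ (m + 1)) (hk : 6 * k = q + r) {ε M : ℤ} (hε : ε * ε = 1)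
    (hM : (k : ℤ) * M ^ 2 - 2 * ε * M ≤ 5) (hdiv : D ∣ q ^ 3 * (q ^ 3 + 1) * (q - 1))
    (hhalf : q - 1 ∣ 2 * D) (hcong : ((q + r + 1 : ℕ) : ℤ) ∣ (D : ℤ) - 6 * ε - M)
    (hlow : q ^ 2 + 1 ≤ D + q) : 5 * q ^ 2 ≤ D := by
  by_contra hlt
  have hε' : ε = 1 ∨ ε = -1 := mul_self_eq_one_iff.1 hε
  rcases Nat.lt_or_ge m 2 with hm1 | hm2
  · obtain rfl : m = 1 := by omega
    norm_num at hq hr
    subst hq hr
    norm_num at hk hdiv hhalf hcong hlow hlt
    obtain rfl : k = 6 := by omega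
    obtain ⟨w, rfl⟩ : 13 ∣ D := by omega
    have hMcases : M = 0 ∨ M = ε := by
      have h2 : M ^ 2 ≤ 1 := by
        by_contra h
        push_cast at hM
        rcases hε' with rfl | rfl <;> nlinarith [sq_nonneg (M - 1), sq_nonneg (M + 1)]
      have hb : -1 ≤ M ∧ M ≤ 1 := by constructor <;> nlinarith
      have hM3 : M = -1 ∨ M = 0 ∨ M = 1 := by omega
      rcases hε' with rfl | rfl <;> rcases hM3 with rfl | rfl | rfl <;>
        first | exact Or.inl rfl | exact Or.inr rfl | (exfalso; norm_num at hM)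
    have hw : w ∣ 19683 * 19684 * 26 / 13 := (Nat.dvd_div_iff_mul_dvd (by norm_num)).2 (by
      norm_num; exact hdiv)
    obtain ⟨c1, c2, c3, c4⟩ := small_case w (by omega) (by omega) hw
    push_cast at hcong
    obtain ⟨z, hz⟩ := hcong
    rcases hε' with rfl | rfl <;> rcases hMcases with rfl | rfl <;> omega
  have hr27 : 27 ≤ r := by
    rw [hr]; exact le_trans (by norm_num) (Nat.pow_le_pow_right (by norm_num) (by omega : 3 ≤ m + 1))
  have hr2n : r * r = 3 * q := by rw [hq, hr, ← pow_add, ← pow_succ']; congr 1; omega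
  have hrq : 9 * r ≤ q := by
    have : 27 * r ≤ r * r := Nat.mul_le_mul_right r hr27
    omega
  have hk7 : 8 ≤ k := by omega
  have hM0 : M = 0 := by
    by_contra h
    have h1 : (1 : ℤ) ≤ M ^ 2 := by
      have : 0 < M ^ 2 := by positivity
      omega
    have h2 : 2 * ε * M ≤ 2 * M ^ 2 := by
      rcases hε' with rfl | rfl <;> nlinarith [mul_nonneg (mul_self_nonneg M) zero_le_one,
        sq_nonneg (M - 1), sq_nonneg (M + 1)]
    have h3 : (8 : ℤ) * M ^ 2 ≤ (k : ℤ) * M ^ 2 := by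
      have : (8 : ℤ) ≤ k := by exact_mod_cast hk7
      nlinarith
    nlinarith
  subst hM0
  obtain ⟨h, hh⟩ : ∃ h, q = 2 * h + 1 := by
    have : Odd q := by rw [hq]; exact Odd.pow (by decide)
    exact this
  obtain ⟨w, hwD⟩ : h ∣ D := by
    refine Nat.dvd_of_mul_dvd_mul_left two_pos ?_
    rwa [hh, Nat.add_sub_cancel] at hhalf
  subst hwD
  have hh1 : 13 ≤ h := by omega
  have hw1 : w ≤ 10 * q + 10 := by
    by_contra hbig
    have : (2 * h) * (10 * q + 11) ≤ (2 * h) * w := Nat.mul_le_mul_left _ (by omega)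
    nlinarith
  have hw2 : 2 * q ≤ w := by
    by_contra hsmall
    have : h * w ≤ h * (2 * q - 1) := Nat.mul_le_mul_left _ (by omega)
    have e : h * (2 * q - 1) + h = h * (2 * q) := by
      rw [← Nat.mul_succ]; congr 1; omega
    nlinarith
  set t := q + r + 1 with ht
  -- congruence of `w`
  have hwt : (t : ℤ) ∣ (w : ℤ) - 12 * ε * ((r : ℤ) + 1) := by
    have h1 : (t : ℤ) ∣ -((r : ℤ) + 2) * w - 12 * ε := by
      have h2 : (t : ℤ) ∣ 2 * (((h * w : ℕ) : ℤ) - 6 * ε - 0) := dvd_mul_of_dvd_right hcong 2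
      have h3 : (t : ℤ) ∣ (t : ℤ) * w := dvd_mul_right _ _
      have e : -((r : ℤ) + 2) * w - 12 * ε = 2 * (((h * w : ℕ) : ℤ) - 6 * ε - 0) - (t : ℤ) * w := by
        rw [ht, hh]; push_cast; ring
      rw [e]; exact dvd_sub h2 h3
    have e : (w : ℤ) - 12 * ε * ((r : ℤ) + 1) =
        ((r : ℤ) + 1) * (-((r : ℤ) + 2) * w - 12 * ε) + (t : ℤ) * (3 * w) := by
      have hr2 : (r : ℤ) * r = 3 * q := by exact_mod_cast hr2n
      rw [ht]; push_cast
      linear_combination (w : ℤ) * hr2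
    rw [e]; exact dvd_add (dvd_mul_of_dvd_right h1 _) (dvd_mul_right _ _)
  obtain ⟨iz, hiz⟩ := hwt
  have hiz1 : 1 ≤ iz := by
    by_contra hneg
    have : (t : ℤ) * iz ≤ 0 := mul_nonpos_of_nonneg_of_nonpos (by positivity) (by omega)
    rcases hε' with rfl | rfl <;> omega
  have hiz2 : iz ≤ 11 := by
    by_contra hbig
    have : (t : ℤ) * 12 ≤ (t : ℤ) * iz := mul_le_mul_of_nonneg_left (by omega) (by positivity)
    rcases hε' with rfl | rfl <;> omega
  obtain ⟨i, rfl⟩ : ∃ i : ℕ, iz = (i : ℤ) := ⟨iz.toNat, by omega⟩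
  obtain ⟨t', ht'⟩ : ∃ t' : ℕ, (t' : ℤ) = (q : ℤ) - r + 1 := ⟨q - r + 1, by omega⟩
  -- the divisibility
  have hcop : IsCoprime (t : ℤ) (w : ℤ) := by
    have hr2 : (r : ℤ) * r = 3 * q := by exact_mod_cast hr2n
    have c1 : IsCoprime (t : ℤ) ((r : ℤ) + 1) := ⟨3, -((r : ℤ) + 2), by
      rw [ht]; push_cast; linear_combination -hr2⟩
    have hq3 : 3 ∣ q := by rw [hq]; exact dvd_pow_self 3 (by omega)
    have hr3 : 3 ∣ r := by rw [hr]; exact dvd_pow_self 3 (by omega)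
    have hrodd : Odd r := by rw [hr]; exact Odd.pow (by decide)
    have c2 : IsCoprime (t : ℤ) 12 := by
      rw [Int.isCoprime_iff_gcd_eq_one]
      show Nat.gcd t 12 = 1
      have h2 : Nat.Coprime t 2 := by
        rw [Nat.coprime_two_right]
        obtain ⟨a, ha⟩ := hrodd
        exact ⟨h + a + 1, by omega⟩
      have h3 : Nat.Coprime t 3 := ((Nat.prime_three.coprime_iff_not_dvd).2 (by omega)).symm
      exact (h2.pow_right 2).mul_right h3
    have c3 : IsCoprime (t : ℤ) ε := ⟨0, ε, by linear_combination hε⟩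
    have := ((c2.mul_right c3).mul_right c1).add_mul_left_right (i : ℤ)
    rwa [← hiz, add_sub_cancel] at this
  have hcopN : Nat.Coprime w t := by
    rw [Int.isCoprime_iff_gcd_eq_one] at hcop
    show Nat.gcd w t = 1
    rw [Nat.gcd_comm]
    exact hcop
  have hwdiv : w ∣ 2 * q ^ 3 * (q + 1) * t' := by
    have hfac : q ^ 3 + 1 = (q + 1) * (t' * t) := by
      have hr2 : (r : ℤ) * r = 3 * q := by exact_mod_cast hr2n
      have : ((q ^ 3 + 1 : ℕ) : ℤ) = (((q + 1) * (t' * t) : ℕ) : ℤ) := by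
        push_cast; rw [ht', ht]; push_cast; linear_combination ((q : ℤ) + 1) * hr2
      exact_mod_cast this
    have e : q ^ 3 * (q ^ 3 + 1) * (q - 1) = h * (2 * q ^ 3 * (q + 1) * t' * t) := by
      rw [hfac, show q - 1 = 2 * h by omega]; ring
    rw [e] at hdiv
    exact hcopN.dvd_of_dvd_mul_right (Nat.dvd_of_mul_dvd_mul_left (by omega) hdiv)
  have hbound := divisor_bound (i := i) hm2 hq hr rfl ht' (by omega) (by omega) hε'
    (by rw [ht] at hiz; push_cast at hiz ⊢; linear_combination hiz) hwdiv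
  have hm8 : m < 8 := by
    by_contra h
    have h17 : 3 ^ 17 ≤ q := by rw [hq]; exact Nat.pow_le_pow_right (by norm_num) (by omega)
    norm_num at h17
    omega
  obtain ⟨f1, f2⟩ := finite_case m hm8 hm2 i (by omega) (by omega)
  rw [← hq, ← hr] at f1 f2
  rw [show q - r + 1 = t' by omega] at f1 f2
  rcases hε' with rfl | rfl
  · refine f1 ?_
    rwa [show i * (q + r + 1) + 12 * (r + 1) = w from by
      have : ((i * (q + r + 1) + 12 * (r + 1) : ℕ) : ℤ) = (w : ℤ) := by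
        rw [ht] at hiz; push_cast at hiz ⊢; linear_combination -hiz
      exact_mod_cast this]
  · refine f2 ?_
    rwa [show i * (q + r + 1) - 12 * (r + 1) = w from by
      have : ((w + 12 * (r + 1) : ℕ) : ℤ) = ((i * (q + r + 1) : ℕ) : ℤ) := by
        rw [ht] at hiz; push_cast at hiz ⊢; linear_combination hiz
      have : w + 12 * (r + 1) = i * (q + r + 1) := by exact_mod_cast this
      omega]

end Cfsg.Agent.Ree.Cover.Arith
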