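import Cfsg.Agent.Lib.Ree.Classes
import Cfsg.Agent.Lib.Ree.MinDegree
import Cfsg.Agent.Lib.Characters.Induction

/-!
Centralisers and representatives of the classes of the small Ree groups.
-/

set_option autoImplicit false
set_option linter.unusedSectionVars false
set_option linter.style.haveILetI false

open scoped Matrix Pointwise MatrixGroups

namespace Cfsg.Agent.Ree.Cover

open Cfsg.Lie Cfsg.Agent.Chevalley Cfsg.Agent.Chevalley.Cert Cfsg.Agent.Chevalley.Group
  Cfsg.Agent.Chevalley.Twist Cfsg.Agent.Chevalley.Twist.G2 Cfsg.Agent.Chevalley.SL2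

variable {K : Type*} [Field K] [Fintype K] [CharP K 3] {m : ℕ}

local notation "GG" => twistedG2 K (3 ^ m)
local notation "qq" => Fintype.card K

theorem card_cent_conj {G : Type*} [Group G] (k g : G) :
    Nat.card (Subgroup.centralizer ({k⁻¹ * g * k} : Set G)) =
      Nat.card (Subgroup.centralizer ({g} : Set G)) := by
  refine Nat.card_congr (Equiv.subtypeEquiv (MulAut.conj k).toEquiv fun z => ?_)
  simp only [Subgroup.mem_centralizer_singleton_iff]
  show z * (k⁻¹ * g * k) = (k⁻¹ * g * k) * z ↔ k * z * k⁻¹ * g = g * (k * z * k⁻¹)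
  constructor <;> intro h
  · calc k * z * k⁻¹ * g = k * (z * (k⁻¹ * g * k)) * k⁻¹ := by group
      _ = _ := by rw [h]; group
  · calc z * (k⁻¹ * g * k) = k⁻¹ * (k * z * k⁻¹ * g) * k := by group
      _ = _ := by rw [h]; group

theorem card_le_image {G α : Type*} [Group G] [Finite α] (H : Subgroup G) (f : α → G)
    (h : ∀ z ∈ H, ∃ a, z = f a) : Nat.card H ≤ Nat.card α := by
  choose a ha using fun z : H => h z z.2
  exact Nat.card_le_card_of_injective a fun z z' e => Subtype.ext (by rw [ha z, ha z', e])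

variable {hK : Fintype.card K = 3 ^ (2 * m + 1)} (X : Setup (K := K) hK)
include X

theorem cent_mem_bor {p : K × K × K} (hp : p ≠ 0) {z : GG} (hz : z * uu X p = uu X p * z) :
    z ∈ bor X := by
  refine (smul_base X).1 (uu_fix_only_base X hp ?_)
  rw [← mul_smul, ← hz, mul_smul, (smul_base X).2 (uu_mem_bor X p)]

theorem cent_decomp_uu {p : K × K × K} (hp : p ≠ 0) {z : GG} (hz : z * uu X p = uu X p * z) :
    ∃ a b c x, z = uu X (a, b, c) * torusHom X x ∧
      uu X (a, b, c) * uu X (a6 m x * p.1, a10 m x * p.2.1, (x : K) * p.2.2) =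
        uu X p * uu X (a, b, c) := by
  obtain ⟨⟨a, b, c⟩, x, rfl⟩ := bor_decomp X (cent_mem_bor X hp hz)
  refine ⟨a, b, c, x, rfl, mul_right_cancel (b := torusHom X x) ?_⟩
  rw [← tor_uu X x, mul_assoc (uu X p), ← hz]
  group

theorem card_cent_center {v : K} (hv : v ≠ 0) :
    Nat.card (Subgroup.centralizer ({uu X (0, 0, v)} : Set GG)) ≤ qq ^ 3 := by
  refine (card_le_image _ (fun p : K × K × K => uu X p) fun z hz => ?_).trans (le_of_eq ?_)
  · obtain ⟨a, b, c, x, rfl, e⟩ := cent_decomp_uu X (p := (0, 0, v)) (by simp [hv])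
      (Subgroup.mem_centralizer_singleton_iff.1 hz)
    rw [uu_mul, uu_mul] at e
    obtain ⟨-, -, h3⟩ := uu_inj X e
    simp only [mul_zero, TT_zero, zero_mul, zero_add, add_zero, sub_zero] at h3
    have hx : (x : K) = 1 :=
      mul_right_cancel₀ hv (by
        simp only [TT_zero, zero_mul, mul_zero, sub_zero, add_zero, zero_add, ne_eq,
          OfNat.ofNat_ne_zero, not_false_eq_true, zero_pow] at h3
        linear_combination h3)
    exact ⟨(a, b, c), by rw [Units.val_eq_one.1 hx, map_one, mul_one]⟩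
  · rw [Nat.card_prod, Nat.card_prod, Nat.card_eq_fintype_card]; ring

theorem cent_u_form {u : K} (hu : u ≠ 0) {z : GG}
    (hz : z * uu X (0, u, 0) = uu X (0, u, 0) * z) :
    ∃ b c x, (x = 1 ∨ x = -1) ∧ z = uu X (0, b, c) * torusHom X x := by
  obtain ⟨a, b, c, x, rfl, e⟩ := cent_decomp_uu X (p := (0, u, 0)) (by simp [hu]) hz
  rw [uu_mul, uu_mul] at e
  obtain ⟨-, h2, h3⟩ := uu_inj X e
  simp only [mul_zero, TT_zero, zero_mul, sub_zero, add_zero, zero_add, ne_eq,
    OfNat.ofNat_ne_zero, not_false_eq_true, zero_pow] at h2 h3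
  have h10 : a10 m x = 1 := mul_right_cancel₀ hu (by linear_combination h2)
  have hx2 := a10_triv X h10
  have ha : a = 0 := (mul_eq_zero.1 (show a * u = 0 by linear_combination h3)).resolve_right hu
  subst ha
  refine ⟨b, c, x, ?_, rfl⟩
  rcases sq_eq_one_iff.1 (show (x : K) ^ 2 = 1 by
    rw [← Units.val_pow_eq_pow_val, hx2, Units.val_one]) with h | h
  · exact Or.inl (Units.ext h)
  · exact Or.inr (Units.ext (by rw [h]; simp))

theorem card_cent_u {u : K} (hu : u ≠ 0) :
    Nat.card (Subgroup.centralizer ({uu X (0, u, 0)} : Set GG)) ≤ 2 * qq ^ 2 := by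
  refine (card_le_image _ (fun p : Bool × K × K =>
    uu X (0, p.2.1, p.2.2) * torusHom X (if p.1 then 1 else -1)) fun z hz => ?_).trans (le_of_eq ?_)
  · obtain ⟨b, c, x, hx, rfl⟩ := cent_u_form X hu (Subgroup.mem_centralizer_singleton_iff.1 hz)
    rcases hx with rfl | rfl
    · exact ⟨(true, b, c), by simp⟩
    · exact ⟨(false, b, c), by simp⟩
  · rw [Nat.card_prod, Nat.card_prod, Nat.card_eq_fintype_card, Nat.card_eq_fintype_card,
      Fintype.card_bool]
    ring

theorem card_cent_six_rep {u : K} (hu : u ≠ 0) :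
    Nat.card (Subgroup.centralizer ({uu X (0, u, 0) * torusHom X (-1)} : Set GG)) ≤ 2 * qq := by
  have hj := tor_neg_sq X
  refine (card_le_image _ (fun p : Bool × K =>
    uu X (0, p.2, 0) * torusHom X (if p.1 then 1 else -1)) fun z hz => ?_).trans (le_of_eq ?_)
  · have hc : Commute z (uu X (0, u, 0) * torusHom X (-1)) :=
      Subgroup.mem_centralizer_singleton_iff.1 hz
    have hcj : Commute z (torusHom X (-1)) := by
      have := hc.pow_right 3
      rwa [neg_pair_cube] at this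
    have hcu : Commute z (uu X (0, u, 0)) := by
      have := hc.mul_right hcj
      rwa [mul_assoc, hj, mul_one] at this
    obtain ⟨b, c, x, hx, rfl⟩ := cent_u_form X hu hcu.eq
    have hjx : Commute (torusHom X x) (torusHom X (-1)) :=
      (Commute.all x (-1 : Kˣ)).map (torusHom X)
    have hjp : Commute (uu X (0, b, c)) (torusHom X (-1)) := by
      have h1 := hcj.mul_left hjx.inv_left
      rwa [mul_inv_cancel_right] at h1
    have e := tor_neg_uu X (0 : K) b c
    rw [mul_inv_eq_iff_eq_mul, ← hjp.eq] at e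
    obtain ⟨-, -, h3⟩ := uu_inj X (mul_right_cancel e)
    have hc0 : c = 0 :=
      (mul_eq_zero.1 (show (2 : K) * c = 0 by linear_combination h3)).resolve_left
        fun e => neg_one_ne_one (K := K) (by linear_combination -e)
    subst hc0
    rcases hx with rfl | rfl
    · exact ⟨(true, b), by simp⟩
    · exact ⟨(false, b), by simp⟩
  · rw [Nat.card_prod, Nat.card_eq_fintype_card, Nat.card_eq_fintype_card, Fintype.card_bool]

theorem card_cent_nine {t u v : K} (ht : t ≠ 0) :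
    Nat.card (Subgroup.centralizer ({uu X (t, u, v)} : Set GG)) ≤ 3 * qq := by
  have hTt : TT m t ≠ 0 := pow_ne_zero _ (pow_ne_zero _ ht)
  let B : K → K := fun a => (TT m t * t * a - TT m t * a ^ 2 + TT m a * t ^ 2 + a * u -
    TT m a * a * t) / t
  refine (card_le_image _ (fun p : Fin 3 × K =>
    uu X (![0, t, -t] p.1, B (![0, t, -t] p.1), p.2)) fun z hz => ?_).trans (le_of_eq ?_)
  · obtain ⟨a, b, c, x, rfl, e⟩ := cent_decomp_uu X (p := (t, u, v)) (by simp [ht])
      (Subgroup.mem_centralizer_singleton_iff.1 hz)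
    rw [uu_mul, uu_mul] at e
    obtain ⟨h1, h2, h3⟩ := uu_inj X e
    simp only at h1 h2 h3
    have h6 : a6 m x = 1 := mul_right_cancel₀ ht (by linear_combination h1)
    obtain rfl : x = 1 := a6_injective X (h6.trans (by rw [a6_eq]; simp [TT_one]))
    have h10 : a10 m (1 : Kˣ) = 1 := by rw [a10_eq]; simp [TT_one]
    simp only [h6, h10, one_mul, Units.val_one] at h2 h3
    have hB : b = B a := by
      simp only [B]
      rw [eq_div_iff ht]
      linear_combination -h3
    have hs : TT m (a / t) = a / t := by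
      have hmul := TT_mul (m := m) (a / t) t
      rw [div_mul_cancel₀ a ht] at hmul
      refine mul_right_cancel₀ (mul_ne_zero hTt ht) ?_
      rw [← mul_assoc, ← hmul, show a / t * (TT m t * t) = TT m t * (a / t * t) by ring,
        div_mul_cancel₀ a ht]
      linear_combination h2
    have hcube := TT_TT hK (a / t)
    rw [hs, hs] at hcube
    have hcases : a = 0 ∨ a = t ∨ a = -t := by
      rcases mul_eq_zero.1 (show (a / t) * ((a / t - 1) * (a / t + 1)) = 0 by
        linear_combination -hcube) with h | h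
      · exact Or.inl ((div_eq_zero_iff.1 h).resolve_right ht)
      rcases mul_eq_zero.1 h with h | h
      · exact Or.inr (Or.inl (eq_of_div_eq_one (sub_eq_zero.1 h)))
      · refine Or.inr (Or.inr ?_)
        rw [← div_mul_cancel₀ a ht, eq_neg_of_add_eq_zero_left h]; ring
    obtain ⟨i, hi⟩ : ∃ i : Fin 3, a = ![0, t, -t] i := by
      rcases hcases with h | h | h
      exacts [⟨0, h⟩, ⟨1, h⟩, ⟨2, h⟩]
    exact ⟨(i, c), by rw [map_one, mul_one, hB, hi]⟩
  · rw [Nat.card_prod, Nat.card_eq_fintype_card, Nat.card_eq_fintype_card, Fintype.card_fin]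

/-- The root subgroup of the centre of the Sylow subgroup. -/
noncomputable def rootZ : Subgroup GG :=
  MonoidHom.range (MonoidHom.mk' (fun v : Multiplicative K => uu X (0, 0, v.toAdd))
    fun a b => by rw [uu_mul]; simp [TT_zero])

/-- The second root subgroup. -/
noncomputable def rootU : Subgroup GG :=
  MonoidHom.range (MonoidHom.mk' (fun v : Multiplicative K => uu X (0, v.toAdd, 0))
    fun a b => by rw [uu_mul]; simp [TT_zero])

theorem mem_rootZ {g : GG} : g ∈ rootZ X ↔ ∃ v, g = uu X (0, 0, v) :=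
  ⟨fun ⟨v, hv⟩ => ⟨v.toAdd, hv.symm⟩, fun ⟨v, hv⟩ => ⟨Multiplicative.ofAdd v, hv.symm⟩⟩

theorem mem_rootU {g : GG} : g ∈ rootU X ↔ ∃ v, g = uu X (0, v, 0) :=
  ⟨fun ⟨v, hv⟩ => ⟨v.toAdd, hv.symm⟩, fun ⟨v, hv⟩ => ⟨Multiplicative.ofAdd v, hv.symm⟩⟩

theorem card_rootZ : Nat.card (rootZ X) = qq := by
  rw [rootZ, Nat.card_congr (MonoidHom.ofInjective ?_).toEquiv.symm, ← Nat.card_eq_fintype_card]
  · rfl
  · exact fun a b e => (uu_inj X e).2.2

theorem card_rootU : Nat.card (rootU X) = qq := by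
  rw [rootU, Nat.card_congr (MonoidHom.ofInjective ?_).toEquiv.symm, ← Nat.card_eq_fintype_card]
  · rfl
  · exact fun a b e => (uu_inj X e).2.1

theorem rootZ_conj {v w : K} (hv : v ≠ 0) (hw : w ≠ 0) :
    IsConj (uu X (0, 0, v)) (uu X (0, 0, w)) := by
  refine isConj_iff.2 ⟨torusHom X (Units.mk0 (w / v) (div_ne_zero hw hv)), ?_⟩
  rw [tor_uu]
  simp [div_mul_cancel₀ w hv]

theorem a10_mul (x y : Kˣ) : a10 m (x * y) = a10 m x * a10 m y := by
  rw [a10_eq, a10_eq, a10_eq, Units.val_mul, TT_mul, mul_inv]; ring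

theorem exists_a10 {c : K} (hc : c ≠ 0) : ∃ x : Kˣ, a10 m x = c ∨ a10 m x = -c := by
  classical
  let f : Kˣ →* Kˣ :=
    MonoidHom.mk' (fun x => Units.mk0 (a10 m x) (Units.ne_zero _))
      (fun x y => Units.ext (a10_mul X x y))
  have hker : ∀ x, f x = 1 → x = 1 ∨ x = -1 := fun x hx => by
    have h2 := a10_triv X (congrArg Units.val hx : a10 m x = 1)
    rcases sq_eq_one_iff.1 (show (x : K) ^ 2 = 1 by
      rw [← Units.val_pow_eq_pow_val, h2, Units.val_one]) with h | h
    · exact Or.inl (Units.ext h)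
    · exact Or.inr (Units.ext (by rw [h]; simp))
  have hneg : ∀ x, f x ≠ -1 := by
    intro x hx
    have h1 : a10 m (x * x) = 1 := by
      rw [a10_mul X, show a10 m x = -1 from (congrArg Units.val hx).trans (by simp)]
      ring
    have h4 := a10_triv X h1
    rw [← sq, ← pow_mul] at h4
    have ho : orderOf x ∣ qq - 1 := by
      have := orderOf_dvd_natCard x
      rwa [Nat.card_units, Nat.card_eq_fintype_card] at this
    have hd := Nat.dvd_gcd (orderOf_dvd_of_pow_eq_one h4) ho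
    obtain ⟨c', hc'⟩ := q_form X
    have hg : Nat.gcd 4 (qq - 1) = 2 := by
      rw [hc', show 8 * c' + 3 - 1 = 2 + 4 * (2 * c') by omega, Nat.gcd_add_mul_left_right]
      rfl
    rw [show 2 * 2 = 4 from rfl, hg] at hd
    have h2 : x ^ 2 = 1 := orderOf_dvd_iff_pow_eq_one.1 hd
    have h10 : a10 m x = 1 := by
      rcases sq_eq_one_iff.1 (show (x : K) ^ 2 = 1 by
        rw [← Units.val_pow_eq_pow_val, h2, Units.val_one]) with h | h
      · rw [Units.ext (h.trans Units.val_one.symm : (x : K) = ((1 : Kˣ) : K)), a10_eq]; simp [TT_one]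
      · rw [show x = -1 from Units.ext (by rw [h]; simp), a10_neg_one]
    have e1 : a10 m x = -1 := (congrArg Units.val hx).trans (by simp)
    rw [h10] at e1
    exact neg_one_ne_one (K := K) e1.symm
  let g : Bool × Kˣ → Kˣ := fun p => (if p.1 then 1 else -1) * f p.2
  have hfib : ∀ y, (Finset.univ.filter fun p => g p = y).card ≤ 2 := by
    intro y
    by_contra h
    obtain ⟨a, b, c', ha, hb, hc', hab, hac, hbc⟩ := Finset.two_lt_card_iff.1 (not_le.1 h)
    simp only [Finset.mem_filter, Finset.mem_univ, true_and] at ha hb hc'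
    have key : ∀ p p', g p = y → g p' = y → p.1 = p'.1 ∧ (p'.2 = p.2 ∨ p'.2 = -p.2) := by
      rintro ⟨e, x⟩ ⟨e', x'⟩ h1 h2
      have h3 : g (e, x) = g (e', x') := h1.trans h2.symm
      have hee : e = e' := by
        cases e <;> cases e' <;> first
          | rfl
          | (exfalso
             simp only [g, Bool.false_eq_true, ↓reduceIte, one_mul, neg_mul] at h3
             first
               | exact hneg (x⁻¹ * x') (by rw [map_mul, map_inv, ← h3]; simp)
               | exact hneg (x'⁻¹ * x) (by rw [map_mul, map_inv, h3]; simp))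
      subst hee
      refine ⟨rfl, ?_⟩
      have h4 : f (x⁻¹ * x') = 1 := by
        rw [map_mul, map_inv, inv_mul_eq_one]
        exact mul_left_cancel h3
      rcases hker _ h4 with h5 | h5
      · exact Or.inl (inv_mul_eq_one.1 h5).symm
      · refine Or.inr ?_
        rw [inv_mul_eq_iff_eq_mul] at h5
        rw [h5, mul_neg, mul_one]
    obtain ⟨k1, k2⟩ := key a b ha hb
    obtain ⟨l1, l2⟩ := key a c' ha hc'
    rcases k2 with k2 | k2 <;> rcases l2 with l2 | l2
    · exact hab (Prod.ext k1 k2.symm)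
    · exact hab (Prod.ext k1 k2.symm)
    · exact hac (Prod.ext l1 l2.symm)
    · exact hbc (Prod.ext (k1.symm.trans l1) (k2.trans l2.symm))
  have hcard := Finset.card_le_mul_card_image (f := g) Finset.univ 2 (fun y _ => hfib y)
  rw [Finset.card_univ, Fintype.card_prod, Fintype.card_bool] at hcard
  have himg : Finset.univ.image g = Finset.univ :=
    Finset.eq_univ_of_card _ (le_antisymm (Finset.card_le_univ _) (by omega))
  obtain ⟨⟨e, x⟩, -, hx⟩ := Finset.mem_image.1 (himg.symm ▸ Finset.mem_univ (Units.mk0 c hc))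
  refine ⟨x, ?_⟩
  have hx' : ((if e then 1 else -1 : Kˣ) : K) * a10 m x = c := congrArg Units.val hx
  cases e
  · exact Or.inr (by simp at hx'; linear_combination -hx')
  · exact Or.inl (by simpa using hx')

theorem rootU_conj {v w : K} (hv : v ≠ 0) (hw : w ≠ 0) :
    IsConj (uu X (0, v, 0)) (uu X (0, w, 0)) ∨ IsConj (uu X (0, v, 0))⁻¹ (uu X (0, w, 0)) := by
  have hinv : (uu X (0, v, 0))⁻¹ = uu X (0, -v, 0) :=
    inv_eq_of_mul_eq_one_right (by rw [uu_mul, ← uu_zero X]; simp [TT_zero])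
  obtain ⟨x, hx | hx⟩ := exists_a10 X (div_ne_zero hw hv)
  · refine Or.inl (isConj_iff.2 ⟨torusHom X x, ?_⟩)
    rw [tor_uu, hx]
    simp [div_mul_cancel₀ w hv]
  · refine Or.inr (isConj_iff.2 ⟨torusHom X x, ?_⟩)
    rw [hinv, tor_uu, hx]
    simp [div_mul_cancel₀ w hv]

theorem order_three_cases {g : GG} (hg : orderOf g = 3) :
    (∃ v, v ≠ 0 ∧ IsConj g (uu X (0, 0, v))) ∨ ∃ u, u ≠ 0 ∧ IsConj g (uu X (0, u, 0)) := by
  obtain ⟨k, hk, -⟩ := three_sing X (g := g) (dvd_of_eq hg.symm)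
  obtain ⟨⟨t, u, v⟩, ⟨ht, hp⟩, e⟩ := (borOrd_three X).le ⟨hk, (orderOf_conj X k g).trans hg⟩
  simp only at ht
  subst ht
  have hc : IsConj g (uu X (0, u, v)) := isConj_iff.2 ⟨k⁻¹, by rw [inv_inv, e]⟩
  by_cases hu : u = 0
  · subst hu
    exact Or.inl ⟨v, fun hv => hp (by rw [hv]; rfl), hc⟩
  · refine Or.inr ⟨u, hu, hc.trans (isConj_iff.2 ⟨uu X (-(v / u), 0, 0), ?_⟩)⟩
    rw [mul_inv_eq_iff_eq_mul, uu_mul, uu_mul]
    simp only [TT_zero, zero_mul, sub_zero, mul_zero, zero_add, add_zero, zero_pow, ne_eq,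
      OfNat.ofNat_ne_zero, not_false_eq_true]
    congr 3
    field_simp
    ring

theorem card_cent_six_order {g : GG} (hg : orderOf g = 6) :
    Nat.card (Subgroup.centralizer ({g} : Set GG)) ≤ 2 * qq := by
  obtain ⟨k, hk, -⟩ := three_sing X (g := g) (by rw [hg]; norm_num)
  obtain ⟨⟨a, u, c⟩, hu, e⟩ := (borOrd_six X).le ⟨hk, (orderOf_conj X k g).trans hg⟩
  simp only [Set.mem_setOf_eq] at hu
  rw [← card_cent_conj k g, ← e, negMap, ← card_cent_conj (uu X (a, 0, c))]
  simp only [mul_assoc, inv_mul_cancel_left]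
  rw [inv_mul_cancel, mul_one]
  exact card_cent_six_rep X hu

theorem card_cent_nine_order {g : GG} (hg : orderOf g = 9) :
    Nat.card (Subgroup.centralizer ({g} : Set GG)) ≤ 3 * qq := by
  obtain ⟨k, hk, -⟩ := three_sing X (g := g) (by rw [hg]; norm_num)
  obtain ⟨⟨t, u, v⟩, ht, e⟩ := (borOrd_nine X).le ⟨hk, (orderOf_conj X k g).trans hg⟩
  rw [← card_cent_conj k g, ← e]
  exact card_cent_nine X ht

variable {Φ : SL(2, K) →* ↥(twistedG2 K (3 ^ m))} (hΦ : IsEmbed X Φ)
include hΦ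

theorem involution_isConj (hm : 1 ≤ m) {s t : GG} (hs : orderOf s = 2) (ht : orderOf t = 2) :
    IsConj s t := by
  have key : ∀ {s : GG}, orderOf s = 2 → IsConj s (torusHom X (-1)) := fun {s} h => by
    obtain ⟨g, hg⟩ := involution_conj X hΦ hm (s := s)
      (fun e => by rw [e, orderOf_one] at h; norm_num at h) (by rw [← sq, ← h, pow_orderOf_eq_one])
    exact (isConj_iff.2 ⟨g, hg.symm⟩).symm
  exact (key hs).trans (key ht).symm

theorem card_cent_involution (hm : 1 ≤ m) {s : GG} (hs : orderOf s = 2) :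
    Nat.card (Subgroup.centralizer ({s} : Set GG)) ≤ qq ^ 3 := by
  obtain ⟨g, hg⟩ := involution_conj X hΦ hm (s := s)
    (fun e => by rw [e, orderOf_one] at hs; norm_num at hs) (by rw [← sq, ← hs, pow_orderOf_eq_one])
  rw [← card_cent_conj g s, hg, show g⁻¹ * (g * torusHom X (-1) * g⁻¹) * g = torusHom X (-1) by group,
    card_centj X hΦ]
  have h1 : 1 ≤ qq := Fintype.card_pos
  calc qq * ((qq - 1) * (qq + 1)) ≤ qq * (qq * qq) := by
        refine Nat.mul_le_mul_left _ ?_
        obtain ⟨c, hc⟩ : ∃ c, qq = c + 1 := ⟨qq - 1, by omega⟩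
        rw [hc]; simp only [Nat.add_sub_cancel]; nlinarith
    _ = qq ^ 3 := by ring

/-- An involution of the normaliser inverts a torus of the third kind. -/
theorem six_inverter (hm : 1 ≤ m) {T : Subgroup GG} (hT : IsSix T)
    (hN : Nat.card (Subgroup.normalizer (T : Set GG)) = 6 * Nat.card T) :
    ∃ s : GG, s * s = 1 ∧ s ∉ T ∧ (∀ y ∈ T, s * y * s = y⁻¹) ∧ orderOf s = 2 ∧
      (∀ y ∈ T, orderOf (s * y) = 2) := by
  haveI : Fact (Nat.Prime 2) := ⟨Nat.prime_two⟩
  obtain ⟨⟨s, hsN⟩, hso⟩ := exists_prime_orderOf_dvd_card' (G := Subgroup.normalizer (T : Set GG)) 2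
    (by rw [hN]; exact dvd_mul_of_dvd_left (by norm_num) _)
  rw [Subgroup.orderOf_mk] at hso
  have hs : s * s = 1 := by rw [← sq, ← hso, pow_orderOf_eq_one]
  have hsinv : s⁻¹ = s := inv_eq_of_mul_eq_one_right hs
  have hsT : s ∉ T := fun h => by
    have hmem : s ∈ sixSet K m := regSix_subset X hΦ hm hT ⟨1, by
      rw [inv_one, one_mul, mul_one]
      exact ⟨h, fun e => by rw [e, orderOf_one] at hso; norm_num at hso⟩⟩
    exact (not_dvd_six X hΦ hmem).1 (dvd_of_eq hso.symm)
  have hinv : ∀ y ∈ T, s * y * s = y⁻¹ := by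
    intro y hy
    have hsy : s * y * s ∈ T := by
      have := (Subgroup.mem_normalizer_iff.1 hsN y).1 hy
      rwa [hsinv] at this
    have hcm := six_comm X hΦ hm hT hy hsy
    have hw : Commute s (y * (s * y * s)) := by
      show s * (y * (s * y * s)) = y * (s * y * s) * s
      rw [show s * (y * (s * y * s)) = (s * y * s) * y * s by simp [mul_assoc]]
      rw [hcm]
    by_contra hne
    have hw1 : y * (s * y * s) ≠ 1 := fun e => hne (inv_eq_of_mul_eq_one_right e).symm
    refine hsT ?_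
    rw [← six_cent X hΦ hm hT (mul_mem hy hsy) hw1]
    exact Subgroup.mem_centralizer_singleton_iff.2 hw.eq
  refine ⟨s, hs, hsT, hinv, hso, fun y hy => orderOf_eq_prime ?_ fun e => hsT ?_⟩
  · rw [sq, ← mul_assoc, hinv y hy, inv_mul_cancel]
  · rw [eq_inv_of_mul_eq_one_left e]
    exact inv_mem hy

/-- The qualitative facts about an element of order greater than two and prime to three. -/
theorem element_cases (hm : 1 ≤ m) {x : GG} (hx2 : 2 < orderOf x) (hx3 : ¬ 3 ∣ orderOf x) :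
    IsConj x x⁻¹ ∧
    ((Nat.card (Subgroup.centralizer ({x} : Set GG)) = qq - 1) ∨
      (Nat.card (Subgroup.centralizer ({x} : Set GG)) = qq - 3 ^ (m + 1) + 1) ∨
      (Nat.card (Subgroup.centralizer ({x} : Set GG)) = qq + 1 ∧ ∀ k : GG, k⁻¹ * x * k ∉ bor X) ∨
      ∃ T : Subgroup GG, IsSix T ∧ Nat.card T = qq + 3 ^ (m + 1) + 1 ∧
        Nat.card (Subgroup.normalizer (T : Set GG)) = 6 * Nat.card T ∧
        ∃ k : GG, k⁻¹ * x * k ∈ T ∧ k⁻¹ * x * k ≠ 1) := by
  have hxx : x * x ≠ 1 := fun e => by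
    have := Nat.le_of_dvd two_pos (orderOf_dvd_of_pow_eq_one (by rw [sq, e] : x ^ 2 = 1))
    omega
  have back : ∀ k : GG, IsConj (k⁻¹ * x * k) (k⁻¹ * x * k)⁻¹ → IsConj x x⁻¹ := fun k h => by
    obtain ⟨c, hc⟩ := isConj_iff.1 h
    refine isConj_iff.2 ⟨k * c * k⁻¹, ?_⟩
    calc k * c * k⁻¹ * x * (k * c * k⁻¹)⁻¹ = k * (c * (k⁻¹ * x * k) * c⁻¹) * k⁻¹ := by group
      _ = _ := by rw [hc]; group
  rcases classify X hΦ hm hxx hx3 with ⟨k, y, hy, e⟩ | ⟨k, hk, hk2⟩ | hsix
  · refine ⟨back k (isConj_iff.2 ⟨Φ sw, by rw [e, nsw_conj X hΦ, map_inv]⟩), Or.inl ?_⟩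
    rw [← card_cent_conj k x, e, cent_tor X hΦ hm hy, card_H' X]
  · refine ⟨back k ?_, Or.inr (Or.inr (Or.inl ⟨?_, ?_⟩))⟩
    · obtain ⟨B, hB, hBe⟩ := (mem_T0 X hΦ).1 hk
      have hBinv : (qM : SL(2, K)) * B * qM⁻¹ = B⁻¹ := by
        obtain ⟨h1, h2⟩ := (mem_T1).1 hB
        rw [mul_inv_eq_iff_eq_mul]
        simp [el] at h1 h2
        ext i j
        fin_cases i <;> fin_cases j <;>
          simp [Matrix.mul_apply, Fin.sum_univ_two, Matrix.SpecialLinearGroup.coe_inv,
            Matrix.adjugate_fin_two, h1, h2] <;> ring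
      refine isConj_iff.2 ⟨Φ qM, ?_⟩
      have hΦB : Φ qM * Φ B * (Φ qM)⁻¹ = (Φ B)⁻¹ := by
        rw [← map_inv, ← map_mul, ← map_mul, hBinv, map_inv]
      rcases hBe with hBe | hBe <;> rw [hBe]
      · exact hΦB
      · calc Φ qM * (torusHom X (-1) * Φ B) * (Φ qM)⁻¹
            = torusHom X (-1) * (Φ qM * Φ B * (Φ qM)⁻¹) := by
              rw [← mul_assoc (Φ qM), ← (hΦ.comm qM).eq]; group
          _ = _ := by
              rw [hΦB, mul_inv_rev, inv_eq_of_mul_eq_one_right (tor_neg_sq X),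
                ((hΦ.comm B).inv_right).eq]
    · rw [← card_cent_conj k x, cent_T0_reg X hΦ hm hk hk2, card_T0 X hΦ]
    · intro l hl
      have hdvd := (orderOf_conj X l x).symm ▸ orderOf_bor X hl
      have hd2 : orderOf x ∣ qq + 1 := by
        rw [← orderOf_conj X k x, ← card_T0 X hΦ]
        exact Subgroup.orderOf_dvd_natCard _ hk
      have hcop : Nat.Coprime (orderOf x) (qq ^ 3) := by
        rw [hK, ← pow_mul]
        exact ((Nat.prime_three.coprime_iff_not_dvd).2 hx3).symm.pow_right _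
      have hd3 : orderOf x ∣ qq - 1 := hcop.dvd_of_dvd_mul_left
        (by rw [← card_bor X, ← orderOf_conj X l x]; exact Subgroup.orderOf_dvd_natCard _ hl)
      have h4 := Nat.dvd_sub hd2 hd3
      have h1 : 1 ≤ qq := Fintype.card_pos
      rw [show qq + 1 - (qq - 1) = 2 by omega] at h4
      have := Nat.le_of_dvd two_pos h4
      omega
  · obtain ⟨Ta, Tb, ha, hb, hca, hcb, hNa, hNb, hset⟩ := exists_tori X hΦ hm
    have hx' : x ∈ sixSet K m := ⟨fun e => hxx (by rw [e, mul_one]), hsix⟩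
    rw [hset] at hx'
    rcases hx' with ⟨k, hk, hk1⟩ | ⟨k, hk, hk1⟩
    · obtain ⟨s, hs, -, hsinv, -, -⟩ := six_inverter X hΦ hm ha hNa
      refine ⟨back k (isConj_iff.2 ⟨s, ?_⟩), Or.inr (Or.inl ?_)⟩
      · rw [inv_eq_of_mul_eq_one_right hs]; exact hsinv _ hk
      · rw [← card_cent_conj k x, six_cent X hΦ hm ha hk hk1, hca]
    · obtain ⟨s, hs, -, hsinv, -, -⟩ := six_inverter X hΦ hm hb hNb
      refine ⟨back k (isConj_iff.2 ⟨s, ?_⟩), Or.inr (Or.inr (Or.inr ⟨Tb, hb, hcb, hNb, k, hk, hk1⟩))⟩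
      rw [inv_eq_of_mul_eq_one_right hs]; exact hsinv _ hk

theorem card_cent_semisimple (hm : 1 ≤ m) {g : GG}
    (hg : g ∈ cset (regH X hΦ) ∨ g ∈ cset (regT X hΦ) ∨ g ∈ sixSet K m) :
    Nat.card (Subgroup.centralizer ({g} : Set GG)) ≤ 3 * qq := by
  have h27 := twenty_seven_le X hm
  rcases hg with ⟨k, y, hy, e⟩ | ⟨k, hk, hk2⟩ | hg
  · rw [← card_cent_conj k g, ← e, cent_tor X hΦ hm hy, card_H' X]
    omega
  · rw [← card_cent_conj k g, cent_T0_reg X hΦ hm hk hk2, card_T0 X hΦ]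
    omega
  · obtain ⟨Ta, Tb, ha, hb, hca, hcb, hNa, hNb, hset⟩ := exists_tori X hΦ hm
    have hr : 3 ^ (m + 1) ≤ qq := by
      rw [hK]; exact Nat.pow_le_pow_right (by norm_num) (by omega)
    rw [hset] at hg
    rcases hg with ⟨k, hk, hk1⟩ | ⟨k, hk, hk1⟩
    · rw [← card_cent_conj k g, six_cent X hΦ hm ha hk hk1, hca]; omega
    · rw [← card_cent_conj k g, six_cent X hΦ hm hb hk hk1, hcb]; omega

end Cfsg.Agent.Ree.Cover
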