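import Cfsg.Agent.Lib.Ree.Cover.Cuspidal
import Cfsg.Agent.Lib.Ree.Cover.Degree

/-!
In the small Ree groups the square of a class of elements of order above two and prime to three
contains every nonidentity element.
-/

set_option autoImplicit false
set_option linter.unusedSectionVars false
set_option linter.style.haveILetI false

open scoped Matrix Pointwise MatrixGroups ComplexConjugate

namespace Cfsg.Agent.Ree.Cover

open Cfsg.Lie Cfsg.Agent.Chevalley Cfsg.Agent.Chevalley.Cert Cfsg.Agent.Chevalley.Group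
  Cfsg.Agent.Chevalley.Twist Cfsg.Agent.Chevalley.Twist.G2 Cfsg.Agent.Chevalley.SL2
open Cfsg.Agent.Characters

/-- Two term Cauchy inequality. -/
theorem sq_add_le {p s α β U V : ℝ} (hα : 0 ≤ α) (hβ : 0 ≤ β) (hU : 0 ≤ U) (hV : 0 ≤ V)
    (hp : p ^ 2 ≤ α * U) (hs : s ^ 2 ≤ β * V) : (p + s) ^ 2 ≤ (α + β) * (U + V) := by
  have hA : 0 ≤ α * V + β * U := by positivity
  have h1 : (2 * (p * s)) ^ 2 ≤ (α * V + β * U) ^ 2 := by
    have := mul_le_mul hp hs (sq_nonneg s) (mul_nonneg hα hU)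
    nlinarith [sq_nonneg (α * V - β * U)]
  have h2 := (le_abs_self (2 * (p * s))).trans (abs_le_of_sq_le_sq h1 hA)
  nlinarith

/-- Fourth powers of few small integers. -/
theorem sum_four_le {ι : Type*} (s : Finset ι) (n : ι → ℤ) (h : ∑ i ∈ s, n i ^ 2 ≤ 5) :
    ∑ i ∈ s, n i ^ 4 ≤ 17 := by
  classical
  have hb : ∀ i ∈ s, n i ^ 2 ≤ 5 := fun i hi =>
    (Finset.single_le_sum (f := fun j => n j ^ 2) (fun j _ => sq_nonneg _) hi).trans h
  have hcase : ∀ i ∈ s, n i ^ 2 ≤ 1 ∨ n i ^ 2 = 4 := fun i hi => by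
    have h5 := hb i hi
    have h2 : -2 ≤ n i ∧ n i ≤ 2 := by constructor <;> nlinarith
    obtain ⟨a, ha⟩ : ∃ a, a = n i := ⟨_, rfl⟩
    rw [← ha] at h2 ⊢
    rcases (show a = -2 ∨ a = -1 ∨ a = 0 ∨ a = 1 ∨ a = 2 by omega) with e | e | e | e | e <;>
      rw [e] <;> norm_num
  by_cases hex : ∃ i ∈ s, n i ^ 2 = 4
  · obtain ⟨i, hi, hi4⟩ := hex
    rw [← Finset.add_sum_erase _ _ hi] at h ⊢
    have h' : ∑ j ∈ s.erase i, n j ^ 4 ≤ ∑ j ∈ s.erase i, n j ^ 2 :=
      Finset.sum_le_sum fun j hj => by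
        have := (Finset.single_le_sum (f := fun j => n j ^ 2) (fun j _ => sq_nonneg _) hj).trans
          (show ∑ j ∈ s.erase i, n j ^ 2 ≤ 1 by linarith)
        nlinarith [sq_nonneg (n j)]
    nlinarith
  · refine le_trans ((Finset.sum_le_sum fun i hi => ?_).trans h) (by norm_num)
    have := (hcase i hi).resolve_right fun e => hex ⟨i, hi, e⟩
    nlinarith [sq_nonneg (n i)]

section Products

variable {G : Type*} [Group G]

theorem cc_conj {x g g' : G} (h : ∃ u v : G, g = u * x * u⁻¹ * (v * x * v⁻¹)) (hc : IsConj g g') :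
    ∃ u v : G, g' = u * x * u⁻¹ * (v * x * v⁻¹) := by
  obtain ⟨u, v, rfl⟩ := h
  obtain ⟨c, rfl⟩ := isConj_iff.1 hc
  exact ⟨c * u, c * v, by group⟩

theorem cc_inv {x g : G} (hx : IsConj x x⁻¹) (h : ∃ u v : G, g = u * x * u⁻¹ * (v * x * v⁻¹)) :
    ∃ u v : G, g⁻¹ = u * x * u⁻¹ * (v * x * v⁻¹) := by
  obtain ⟨u, v, rfl⟩ := h
  obtain ⟨c, hc⟩ := isConj_iff.1 hx
  refine ⟨v * c, u * c, ?_⟩
  calc (u * x * u⁻¹ * (v * x * v⁻¹))⁻¹ = v * x⁻¹ * v⁻¹ * (u * x⁻¹ * u⁻¹) := by group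
    _ = _ := by rw [← hc]; group

theorem cc_base {x x' g : G} (hx : IsConj x x') (h : ∃ u v : G, g = u * x' * u⁻¹ * (v * x' * v⁻¹)) :
    ∃ u v : G, g = u * x * u⁻¹ * (v * x * v⁻¹) := by
  obtain ⟨u, v, rfl⟩ := h
  obtain ⟨c, rfl⟩ := isConj_iff.1 hx
  exact ⟨u * c, v * c, by group⟩

end Products

variable {K : Type*} [Field K] [Fintype K] [CharP K 3] {m : ℕ}

local notation "GG" => twistedG2 K (3 ^ m)
local notation "qq" => Fintype.card K

variable {hK : Fintype.card K = 3 ^ (2 * m + 1)} (X : Setup (K := K) hK)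
include X

theorem sizes (hm : 1 ≤ m) : (27 : ℝ) ≤ qq ∧ ((3 ^ (m + 1) : ℕ) : ℝ) ^ 2 = 3 * qq ∧
    3 * ((3 ^ (m + 1) : ℕ) : ℝ) ≤ qq ∧
    25 * (qq : ℝ) ^ 3 < ((qq : ℝ) ^ 2 - qq + 1) ^ 2 := by
  have h27 : (27 : ℝ) ≤ qq := by exact_mod_cast twenty_seven_le X hm
  refine ⟨h27, ?_, ?_, ?_⟩
  · have : (3 ^ (m + 1)) ^ 2 = 3 * qq := by rw [hK, ← pow_mul, ← pow_succ']; congr 1; omega
    exact_mod_cast this
  · have : 3 * 3 ^ (m + 1) ≤ qq := by
      rw [hK, ← pow_succ']; exact Nat.pow_le_pow_right (by norm_num) (by omega)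
    exact_mod_cast this
  · have h3 : (27 : ℝ) * (qq : ℝ) ^ 3 ≤ (qq : ℝ) ^ 4 := by
      rw [show (qq : ℝ) ^ 4 = (qq : ℝ) * (qq : ℝ) ^ 3 by ring]
      exact mul_le_mul_of_nonneg_right h27 (by positivity)
    nlinarith [sq_nonneg ((qq : ℝ) - 1), h27]

variable {Φ : SL(2, K) →* ↥(twistedG2 K (3 ^ m))} (hΦ : IsEmbed X Φ)
include hΦ
variable [Fintype ↥(twistedG2 K (3 ^ m))] [Fintype (Cfsg.IrrCharacter ↥(twistedG2 K (3 ^ m)))]

theorem six_free (hm : 1 ≤ m) {T : Subgroup GG} (hT : IsSix T) {g : GG}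
    (hg : 2 ∣ orderOf g ∨ 3 ∣ orderOf g) (c : GG) (hc : c⁻¹ * g * c ∈ T) : c⁻¹ * g * c = 1 := by
  by_contra h1
  have hs : c⁻¹ * g * c ∈ sixSet K m := regSix_subset X hΦ hm hT ⟨1, by
    rw [inv_one, one_mul, mul_one]; exact ⟨hc, h1⟩⟩
  obtain ⟨h2, h3, -⟩ := not_dvd_six X hΦ hs
  rw [orderOf_conj X] at h2 h3
  rcases hg with h | h
  exacts [h2 h, h3 h]

theorem big_torus (hm : 1 ≤ m) {T : Subgroup GG} (hT : IsSix T)
    (hcard : Nat.card T = qq + 3 ^ (m + 1) + 1)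
    (hN : Nat.card (Subgroup.normalizer (T : Set GG)) = 6 * Nat.card T) {x : GG} (hx : x ∈ T)
    (hx1 : x ≠ 1) {g : GG} (hg : 2 ∣ orderOf g ∨ 3 ∣ orderOf g)
    (hcg : Nat.card (Subgroup.centralizer ({g} : Set GG)) ≤ qq ^ 3) :
    ∃ u v : GG, g = u * x * u⁻¹ * (v * x * v⁻¹) := by
  classical
  have h27n := twenty_seven_le X hm
  obtain ⟨h27, hr2, hr3, hδ⟩ := sizes X hm
  obtain ⟨k, μ, ε, M, hE⟩ := exists_excep T (fun a ha b hb => six_comm X hΦ hm hT ha hb)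
    (fun y hy hy1 => six_cent X hΦ hm hT hy hy1) hN (by
      rw [hcard]
      exact le_trans (show 13 ≤ qq + 1 by omega) (Nat.add_le_add_right (Nat.le_add_right qq _) 1))
  have hk6 : 6 * k = qq + 3 ^ (m + 1) := by have := hE.card; omega
  have hk3 : 3 ≤ k := by
    obtain ⟨r, hr⟩ : ∃ r, r = 3 ^ (m + 1) := ⟨_, rfl⟩
    rw [← hr] at hk6
    omega
  have hk0 : 0 < k := by omega
  let i₀ : Fin k := ⟨0, hk0⟩
  obtain ⟨D, hDv⟩ := char_one_nat (irr_isCharacter (μ i₀))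
  have hfree1 : ∀ i j, (μ i : GG → ℂ) 1 = (μ j : GG → ℂ) 1 := fun i j =>
    hE.free 1 (fun c _ => by group) i j
  have hne : ∀ i, μ i ≠ trivIrr GG := by
    intro i e
    obtain ⟨j, hj⟩ : ∃ j, j ≠ i := by
      haveI : Nontrivial (Fin k) := Fin.nontrivial_iff_two_le.2 (by omega)
      exact exists_ne i
    have hjne : μ j ≠ trivIrr GG := fun e' => hj (hE.inj (e'.trans e.symm))
    have h := degree_ge X hm (μ j) hjne
    rw [hfree1 j i, e] at h
    simp only [trivIrr_coe, norm_one] at h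
    nlinarith
  set rest := (nontriv GG).filter fun χ => ∀ i, χ ≠ μ i with hrest
  have hsplit : ∀ f : Cfsg.IrrCharacter GG → ℝ,
      ∑ χ ∈ nontriv GG, f χ = ∑ i, f (μ i) + ∑ χ ∈ rest, f χ := by
    intro f
    rw [← Finset.sum_filter_add_sum_filter_not (nontriv GG) (fun χ => ∀ i, χ ≠ μ i) f, add_comm,
      ← hrest]
    congr 1
    rw [← Finset.sum_image (f := f) (s := Finset.univ) (g := μ) fun a _ b _ hab => hE.inj hab]
    refine Finset.sum_congr (Finset.ext fun χ => ?_) fun _ _ => rfl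
    simp only [Finset.mem_filter, mem_nontriv, Finset.mem_image, Finset.mem_univ, true_and,
      not_forall, not_not]
    exact ⟨fun ⟨_, i, hi⟩ => ⟨i, hi.symm⟩, fun ⟨i, hi⟩ => ⟨hi ▸ hne i, i, hi.symm⟩⟩
  have hcx : centR x = (Nat.card T : ℝ) := by rw [centR, six_cent X hΦ hm hT hx hx1]
  have hexn : ∀ χ : Cfsg.IrrCharacter GG, ∃ n : ℤ, χ ∈ rest → (χ : GG → ℂ) x = (n : ℂ) :=
    fun χ => by
      by_cases hc : χ ∈ rest
      · obtain ⟨n, hn⟩ := hE.other χ (Finset.mem_filter.1 hc).2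
        exact ⟨n, fun _ => hn x hx hx1⟩
      · exact ⟨0, fun h => absurd h hc⟩
  choose n hn using hexn
  set A : ℝ := ∑ i, ‖(μ i : GG → ℂ) x‖ ^ 2 with hA
  have hAe : A = (Nat.card T : ℝ) - 6 - 2 * ε * M + k * M ^ 2 := hE.norm x hx hx1
  have hrs : ((∑ χ ∈ rest, n χ ^ 2 : ℤ) : ℝ) = (Nat.card T : ℝ) - 1 - A := by
    have h := sum_norm_sq_nontriv x
    rw [hsplit, ← hA, hcx] at h
    rw [Int.cast_sum, ← h, add_sub_cancel_left]
    refine Finset.sum_congr rfl fun χ hχ => ?_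
    rw [hn χ hχ, Complex.norm_intCast, sq_abs]
    push_cast; rfl
  have hsum5 : (∑ χ ∈ rest, n χ ^ 2) = 5 + 2 * ε * M - k * M ^ 2 := by
    have : ((∑ χ ∈ rest, n χ ^ 2 : ℤ) : ℝ) = ((5 + 2 * ε * M - k * M ^ 2 : ℤ) : ℝ) := by
      rw [hrs, hAe]; push_cast; ring
    exact_mod_cast this
  have hMk : 0 ≤ (k : ℤ) * M ^ 2 - 2 * ε * M := by
    have hk : (3 : ℤ) ≤ k := by exact_mod_cast hk3
    have hεM : 2 * ε * M ≤ 2 * M ^ 2 := by
      rcases mul_self_eq_one_iff.1 hE.sign with e | e <;> rw [e] <;>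
        rcases le_or_gt M 0 with h | h <;> nlinarith
    nlinarith [sq_nonneg M]
  have hD5 : 5 * qq ^ 2 ≤ D := by
    refine Arith.degree_big hm hK rfl hk6 hE.sign ?_ ?_ (pred_dvd_two_mul X hΦ hm hT hE hk3 i₀ hDv)
      (by rw [← hcard]; exact hE.congr i₀ D hDv) ?_
    · have := Finset.sum_nonneg (s := rest) fun χ _ => sq_nonneg (n χ)
      linarith
    · obtain ⟨D', hD', -, hdvd⟩ := irr_degree_dvd_card (μ i₀).2
      rw [hDv, Nat.cast_inj] at hD'
      rw [mul_right_comm, ← card_GG X, hD']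
      exact hdvd
    · have h := degree_ge X hm (μ i₀) (hne i₀)
      rw [hDv, Complex.norm_natCast] at h
      have : ((qq ^ 2 + 1 : ℕ) : ℝ) ≤ ((D + qq : ℕ) : ℝ) := by push_cast; linarith
      exact_mod_cast this
  have h4 : (∑ χ ∈ rest, (n χ : ℝ) ^ 4) ≤ 17 := by
    exact_mod_cast sum_four_le rest n (by linarith)
  -- the estimate
  refine exists_of_bound x g ?_
  set δ : ℝ := (qq : ℝ) ^ 2 - qq + 1 with hδdef
  have hδpos : 0 < δ := by nlinarith
  set c := ‖(μ i₀ : GG → ℂ) g‖ with hc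
  have hgval : ∀ i, ‖(μ i : GG → ℂ) g‖ = c := fun i => by
    rw [hc, hE.free g (fun c hc => six_free X hΦ hm hT hg c hc) i i₀]
  have hdeg : ∀ i, ‖(μ i : GG → ℂ) 1‖ = D := fun i => by
    rw [hfree1 i i₀, hDv, Complex.norm_natCast]
  set V := ∑ χ ∈ rest, ‖(χ : GG → ℂ) g‖ ^ 2 with hV
  have hUV : (k : ℝ) * c ^ 2 + V ≤ (qq : ℝ) ^ 3 := by
    have h := sum_norm_sq_nontriv g
    rw [hsplit, Finset.sum_congr rfl (g := fun _ => c ^ 2) fun i _ => by rw [hgval],
      Finset.sum_const, Finset.card_univ, Fintype.card_fin, nsmul_eq_mul, ← hV] at h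
    have : centR g ≤ (qq : ℝ) ^ 3 := by rw [centR]; exact_mod_cast hcg
    linarith
  have hD0 : (0 : ℝ) < D := by
    have : 0 < D := lt_of_lt_of_le (by positivity) hD5
    exact_mod_cast this
  have hA1 : A ≤ (qq : ℝ) + (3 ^ (m + 1) : ℕ) := by
    have h0 : (0 : ℝ) ≤ ((∑ χ ∈ rest, n χ ^ 2 : ℤ) : ℝ) := by positivity
    rw [hrs, hcard] at h0
    push_cast at h0 ⊢
    linarith
  refine lt_of_le_of_lt (b := A * c / D + (∑ χ ∈ rest, (n χ : ℝ) ^ 2 * ‖(χ : GG → ℂ) g‖) / δ) ?_ ?_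
  · rw [hsplit, hA, Finset.sum_mul, Finset.sum_div, Finset.sum_div]
    refine add_le_add (le_of_eq (Finset.sum_congr rfl fun i _ => by rw [hgval, hdeg]))
      (Finset.sum_le_sum fun χ hχ => ?_)
    rw [hn χ hχ, Complex.norm_intCast, sq_abs]
    exact div_le_div_of_nonneg_left (by positivity) hδpos
      (degree_ge X hm χ (mem_nontriv.1 (Finset.mem_filter.1 hχ).1))
  · refine lt_of_pow_lt_pow_left₀ 2 zero_le_one ?_
    have hk' : (0 : ℝ) < k := by exact_mod_cast hk0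
    have hp : (A * c / D) ^ 2 ≤ (A ^ 2 / (k * (D : ℝ) ^ 2)) * (k * c ^ 2) := le_of_eq (by field_simp)
    have hs : ((∑ χ ∈ rest, (n χ : ℝ) ^ 2 * ‖(χ : GG → ℂ) g‖) / δ) ^ 2 ≤ (17 / δ ^ 2) * V := by
      rw [div_pow, div_mul_eq_mul_div]
      refine div_le_div_of_nonneg_right ((Finset.sum_mul_sq_le_sq_mul_sq _ _ _).trans ?_)
        (by positivity)
      refine mul_le_mul_of_nonneg_right (le_trans (le_of_eq ?_) h4) (Finset.sum_nonneg fun _ _ => by positivity)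
      exact Finset.sum_congr rfl fun χ _ => by ring
    refine lt_of_le_of_lt ((sq_add_le (by positivity) (by positivity) (by positivity)
      (Finset.sum_nonneg fun _ _ => by positivity) hp hs).trans
      (mul_le_mul_of_nonneg_left hUV (by positivity))) ?_
    rw [one_pow]
    have hk6' : 6 * (k : ℝ) = (qq : ℝ) + (3 ^ (m + 1) : ℕ) := by exact_mod_cast hk6
    have hA0 : 0 ≤ A := Finset.sum_nonneg fun _ _ => by positivity
    have hD5' : 5 * (qq : ℝ) ^ 2 ≤ D := by exact_mod_cast hD5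
    have hfirst : A ^ 2 / (k * (D : ℝ) ^ 2) ≤ 8 * qq / (25 * (qq : ℝ) ^ 4) := by
      rw [div_le_div_iff₀ (by positivity) (by positivity)]
      have h1 : A ^ 2 ≤ (6 * (k : ℝ)) ^ 2 := pow_le_pow_left₀ hA0 (by linarith) 2
      have h2 : 25 * (qq : ℝ) ^ 4 ≤ (D : ℝ) ^ 2 := by
        calc 25 * (qq : ℝ) ^ 4 = (5 * (qq : ℝ) ^ 2) ^ 2 := by ring
          _ ≤ _ := pow_le_pow_left₀ (by positivity) hD5' 2
      calc A ^ 2 * (25 * (qq : ℝ) ^ 4) ≤ (6 * (k : ℝ)) ^ 2 * (D : ℝ) ^ 2 :=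
            mul_le_mul h1 h2 (by positivity) (by positivity)
        _ = (6 * (6 * (k : ℝ))) * (k * (D : ℝ) ^ 2) := by ring
        _ ≤ 8 * qq * (k * (D : ℝ) ^ 2) :=
            mul_le_mul_of_nonneg_right (by linarith) (by positivity)
    refine lt_of_le_of_lt (mul_le_mul_of_nonneg_right (add_le_add hfirst le_rfl) (by positivity)) ?_
    have hq0 : (0 : ℝ) < qq := by linarith
    have hsecond : 17 / δ ^ 2 < 17 / (25 * (qq : ℝ) ^ 3) :=
      div_lt_div_of_pos_left (by norm_num) (by positivity) hδ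
    calc (8 * (qq : ℝ) / (25 * (qq : ℝ) ^ 4) + 17 / δ ^ 2) * (qq : ℝ) ^ 3
        < (8 * (qq : ℝ) / (25 * (qq : ℝ) ^ 4) + 17 / (25 * (qq : ℝ) ^ 3)) * (qq : ℝ) ^ 3 :=
          mul_lt_mul_of_pos_right (by linarith) (by positivity)
      _ = 1 := by field_simp; ring

theorem root_hit (hm : 1 ≤ m) (R : Subgroup GG) (hR : Nat.card R = qq)
    (hcent : ∀ u ∈ R, u ≠ 1 → Nat.card (Subgroup.centralizer ({u} : Set GG)) ≤ qq ^ 3)
    (hRu : ∀ u ∈ R, ∃ p, u = uu X p) {x : GG} (hx : IsConj x x⁻¹) (hx1 : x ≠ 1)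
    (hxc : Nat.card (Subgroup.centralizer ({x} : Set GG)) < qq ∨
      (Nat.card (Subgroup.centralizer ({x} : Set GG)) = qq + 1 ∧ ∀ k : GG, k⁻¹ * x * k ∉ bor X)) :
    ∃ u ∈ R, u ≠ 1 ∧ ∃ a b : GG, u = a * x * a⁻¹ * (b * x * b⁻¹) := by
  classical
  haveI := Fintype.ofFinite R
  obtain ⟨h27, -, -, -⟩ := sizes X hm
  suffices h : ∃ u ∈ R, u ≠ 1 ∧ csum x u ≠ 0 by
    obtain ⟨u, hu, hu1, hne⟩ := h
    exact ⟨u, hu, hu1, exists_of_csum x u hne⟩
  rcases hxc with hlt | ⟨heq, hfree⟩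
  · exact root_large R hx (by rw [centR, hR]; exact_mod_cast hlt)
  obtain ⟨σ, hσ, hσ1, hσu, hσx⟩ := steinberg X
  have hcx : centR x = (Nat.card R : ℝ) + 1 := by rw [centR, hR, heq]; push_cast; rfl
  have hav : avg R σ = qq ^ 2 := by
    have h := avg_spec R σ
    rw [Finset.sum_eq_single (1 : R) (fun u _ hu => ?_) (by simp), OneMemClass.coe_one, hσ1, hR] at h
    · have : qq ^ 3 = qq * avg R σ := by exact_mod_cast h
      exact (Nat.eq_of_mul_eq_mul_left Fintype.card_pos ((show qq * qq ^ 2 = qq ^ 3 by ring).trans this)).symm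
    · obtain ⟨p, hp⟩ := hRu u u.2
      rw [hp]
      refine hσu p fun e => hu (Subtype.ext ?_)
      rw [hp, e, show uu X (0 : K × K × K) = 1 from uu_zero X]
      rfl
  refine root_equal R hx hx1 σ hσ hσ1 hav (by rw [hR]; ring) (hσx x hfree) hcx
    (c := (qq : ℝ) ^ 3) (by positivity) (fun u hu hu1 => by rw [centR]; exact_mod_cast hcent u hu hu1)
    (Nat.one_le_pow _ _ Fintype.card_pos) ?_
  rw [hcx, hR]
  push_cast
  set q : ℝ := (qq : ℝ) with hq
  have h1 : (q - 1) ^ 2 * ((q + 1) * q ^ 3) = (q ^ 2 - 1) * (q - 1) * q ^ 3 := by ring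
  have h2 : (q ^ 2 - 1) * (q - 1) * q ^ 3 + (q ^ 5 - 3 * q ^ 3) ≤ (q ^ 3 - 1) ^ 2 := by
    nlinarith [pow_pos (show (0 : ℝ) < q by linarith) 3, pow_pos (show (0 : ℝ) < q by linarith) 4]
  have h3 : 0 < q ^ 5 - 3 * q ^ 3 := by
    have : q ^ 5 - 3 * q ^ 3 = q ^ 3 * (q ^ 2 - 3) := by ring
    rw [this]
    exact mul_pos (by positivity) (by nlinarith)
  linarith

theorem cover (hm : 1 ≤ m) (x : GG) (hx2 : 2 < orderOf x) (hx3 : ¬ 3 ∣ orderOf x) (g : GG)
    (hg : g ≠ 1) : ∃ u v : GG, g = u * x * u⁻¹ * (v * x * v⁻¹) := by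
  classical
  have h27n := twenty_seven_le X hm
  obtain ⟨h27, hr2, hr3, hδ⟩ := sizes X hm
  have hx1 : x ≠ 1 := fun e => by rw [e, orderOf_one] at hx2; omega
  obtain ⟨hreal, hcases⟩ := element_cases X hΦ hm hx2 hx3
  set δ : ℝ := (qq : ℝ) ^ 2 - qq + 1 with hδdef
  have hδpos : 0 < δ := by nlinarith
  have hdeg := fun χ (h : χ ∈ nontriv GG) => degree_ge X hm χ (mem_nontriv.1 h)
  have hrn : 3 * 3 ^ (m + 1) ≤ qq := by exact_mod_cast hr3
  have hcxle : Nat.card (Subgroup.centralizer ({x} : Set GG)) ≤ qq + 3 ^ (m + 1) + 1 := by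
    rcases hcases with h | h | ⟨h, -⟩ | ⟨T, hT, hc, -, k, hk, hk1⟩
    · omega
    · omega
    · omega
    · rw [← card_cent_conj k x, six_cent X hΦ hm hT hk hk1, hc]
  have hsmall : Nat.card (Subgroup.centralizer ({g} : Set GG)) ≤ 3 * qq →
      ∃ u v : GG, g = u * x * u⁻¹ * (v * x * v⁻¹) := by
    intro hcg
    refine exists_of_small x g hδpos hdeg ?_
    have h1 : centR x - 1 ≤ (qq : ℝ) + (3 ^ (m + 1) : ℕ) := by
      have : centR x ≤ ((qq + 3 ^ (m + 1) + 1 : ℕ) : ℝ) := by rw [centR]; exact_mod_cast hcxle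
      push_cast at this ⊢; linarith
    have h2 : centR g ≤ 3 * (qq : ℝ) := by rw [centR]; exact_mod_cast hcg
    have h0 : 0 ≤ centR x - 1 := by rw [← sum_norm_sq_nontriv]; positivity
    refine lt_of_le_of_lt ?_ hδ
    calc (centR x - 1) ^ 2 * centR g ≤ (2 * (qq : ℝ)) ^ 2 * (3 * (qq : ℝ)) :=
          mul_le_mul (pow_le_pow_left₀ h0 (by linarith) 2) h2 (Nat.cast_nonneg _) (by positivity)
      _ ≤ _ := by nlinarith [pow_pos (show (0 : ℝ) < qq by linarith) 3]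
  rcases sort_all X hΦ hm g with h | h | h | h | h | h | h | h
  · exact absurd (orderOf_eq_one_iff.1 h) hg
  · -- involutions
    rcases hcases with hc | hc | ⟨hc, -⟩ | ⟨T, hT, hcd, hN, k, hk, hk1⟩
    case inr.inr.inr =>
      exact cc_base (isConj_iff.2 ⟨k⁻¹, by rw [inv_inv]⟩)
        (big_torus X hΦ hm hT hcd hN hk hk1 (Or.inl (dvd_of_eq h.symm))
          (card_cent_involution X hΦ hm h))
    all_goals
      have hcle : Nat.card (Subgroup.centralizer ({x} : Set GG)) ≤ qq + 1 := by omega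
      obtain ⟨Ta, Tb, ha, hb, hca, hcb, hNa, hNb, -⟩ := exists_tori X hΦ hm
      obtain ⟨s, hs, hsT, hsinv, hso, hsy⟩ := six_inverter X hΦ hm hb hNb
      haveI := Fintype.ofFinite Tb
      refine exists_of_dihedral Tb hs hsT hsinv
        (fun y hy => involution_isConj X hΦ hm h (hsy y hy))
        (fun y hy hy1 => le_of_eq (by rw [centR, six_cent X hΦ hm hb hy hy1])) x hδpos hdeg ?_
      have hcle' : centR x - 1 ≤ (qq : ℝ) := by
        have : centR x ≤ ((qq + 1 : ℕ) : ℝ) := by rw [centR]; exact_mod_cast hcle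
        push_cast at this; linarith
      rw [hcb]
      push_cast
      push_cast at hr2 hr3
      set q : ℝ := (qq : ℝ) with hq
      set r : ℝ := (3 : ℝ) ^ (m + 1) with hr
      have hr0 : (0 : ℝ) ≤ r := by positivity
      have hq0 : (0 : ℝ) < q := by linarith
      have ht0 : 0 < q + r + 1 := by linarith
      refine lt_of_le_of_lt (mul_le_mul_of_nonneg_right hcle' (by positivity)) ?_
      rw [mul_add]
      have hy : q * (Real.sqrt (q + r + 1) / δ) < (r + 1) / (q + r + 1) := by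
        refine lt_of_pow_lt_pow_left₀ 2 (by positivity) ?_
        rw [mul_pow, div_pow, div_pow, Real.sq_sqrt ht0.le, ← mul_div_assoc,
          div_lt_div_iff₀ (by positivity) (by positivity)]
        have ht : q + r + 1 ≤ 37 / 27 * q := by linarith
        have ht3 : (q + r + 1) ^ 3 ≤ (37 / 27 * q) ^ 3 := pow_le_pow_left₀ ht0.le ht 3
        have hd : (q * (q - 1)) ^ 2 ≤ δ ^ 2 := pow_le_pow_left₀ (by nlinarith) (by nlinarith) 2
        have hr1 : 3 * q ≤ (r + 1) ^ 2 := by nlinarith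
        calc q ^ 2 * (q + r + 1) * (q + r + 1) ^ 2 = q ^ 2 * (q + r + 1) ^ 3 := by ring
          _ ≤ q ^ 2 * (37 / 27 * q) ^ 3 := mul_le_mul_of_nonneg_left ht3 (sq_nonneg _)
          _ = (37 / 27) ^ 3 * (q ^ 3 * q ^ 2) := by ring
          _ < 3 * (q ^ 3 * (q - 1) ^ 2) := by
              have h1 : (37 / 27 : ℝ) ^ 3 * q ^ 2 < 3 * (q - 1) ^ 2 := by nlinarith
              nlinarith [mul_lt_mul_of_pos_left h1 (pow_pos hq0 3)]
          _ = (3 * q) * (q * (q - 1)) ^ 2 := by ring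
          _ ≤ (r + 1) ^ 2 * δ ^ 2 := mul_le_mul hr1 hd (sq_nonneg _) (sq_nonneg _)
      have he : q * (1 / (q + r + 1)) + (r + 1) / (q + r + 1) = 1 := by field_simp; ring
      linarith
  · -- order three
    have hZ : ∀ u ∈ rootZ X, u ≠ 1 →
        Nat.card (Subgroup.centralizer ({u} : Set GG)) ≤ qq ^ 3 := fun u hu hu1 => by
      obtain ⟨v, rfl⟩ := (mem_rootZ X).1 hu
      exact card_cent_center X fun e => hu1 (by rw [e, uu_zero])
    have hU : ∀ u ∈ rootU X, u ≠ 1 →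
        Nat.card (Subgroup.centralizer ({u} : Set GG)) ≤ qq ^ 3 := fun u hu hu1 => by
      obtain ⟨v, rfl⟩ := (mem_rootU X).1 hu
      refine (card_cent_u X fun e => hu1 (by rw [e, uu_zero])).trans ?_
      rw [pow_succ qq 2, mul_comm]
      exact Nat.mul_le_mul_left _ (by omega)
    rcases hcases with hc | hc | ⟨hc, hfree⟩ | ⟨T, hT, hcd, hN, k, hk, hk1⟩
    case inr.inr.inr =>
      refine cc_base (isConj_iff.2 ⟨k⁻¹, by rw [inv_inv]⟩)
        (big_torus X hΦ hm hT hcd hN hk hk1 (Or.inr (dvd_of_eq h.symm)) ?_)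
      rcases order_three_cases X h with ⟨v, hv, hcv⟩ | ⟨v, hv, hcv⟩ <;>
        obtain ⟨c, hc⟩ := isConj_iff.1 hcv.symm <;>
        rw [← card_cent_conj c g, ← hc] <;> simp only [mul_assoc, inv_mul_cancel_left] <;>
        rw [inv_mul_cancel, mul_one]
      · exact hZ _ ((mem_rootZ X).2 ⟨v, rfl⟩) fun e => hv (by
          rw [← uu_zero X] at e; exact (uu_inj X e).2.2)
      · exact hU _ ((mem_rootU X).2 ⟨v, rfl⟩) fun e => hv (by
          rw [← uu_zero X] at e; exact (uu_inj X e).2.1)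
    all_goals
      have hxc : Nat.card (Subgroup.centralizer ({x} : Set GG)) < qq ∨
          (Nat.card (Subgroup.centralizer ({x} : Set GG)) = qq + 1 ∧
            ∀ k : GG, k⁻¹ * x * k ∉ bor X) := by
        first
          | exact Or.inr ⟨hc, hfree⟩
          | (left; have : 2 ≤ 3 ^ (m + 1) := le_trans (by norm_num)
              (Nat.pow_le_pow_right (by norm_num) (by omega : 1 ≤ m + 1))
             omega)
      rcases order_three_cases X h with ⟨v, hv, hcv⟩ | ⟨v, hv, hcv⟩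
      · obtain ⟨u, hu, hu1, huc⟩ := root_hit X hΦ hm (rootZ X) (card_rootZ X) hZ
          (fun u hu => ((mem_rootZ X).1 hu).elim fun a ha => ⟨_, ha⟩) hreal hx1 hxc
        obtain ⟨w, rfl⟩ := (mem_rootZ X).1 hu
        exact cc_conj (cc_conj huc (rootZ_conj X (fun e => hu1 (by rw [e, uu_zero])) hv)) hcv.symm
      · obtain ⟨u, hu, hu1, huc⟩ := root_hit X hΦ hm (rootU X) (card_rootU X) hU
          (fun u hu => ((mem_rootU X).1 hu).elim fun a ha => ⟨_, ha⟩) hreal hx1 hxc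
        obtain ⟨w, rfl⟩ := (mem_rootU X).1 hu
        rcases rootU_conj X (v := w) (fun e => hu1 (by rw [e, uu_zero])) hv with h' | h'
        · exact cc_conj (cc_conj huc h') hcv.symm
        · exact cc_conj (cc_conj (cc_inv hreal huc) h') hcv.symm
  · exact hsmall ((card_cent_six_order X h).trans (by omega))
  · exact hsmall (card_cent_nine_order X h)
  · exact hsmall (card_cent_semisimple X hΦ hm (Or.inl h))
  · exact hsmall (card_cent_semisimple X hΦ hm (Or.inr (Or.inl h)))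
  · exact hsmall (card_cent_semisimple X hΦ hm (Or.inr (Or.inr h)))

end Cfsg.Agent.Ree.Cover
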