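import Cfsg.Agent.Lib.Ree.Cover.Chars

/-!
Averages over root subgroups and over dihedral subgroups.
-/

set_option autoImplicit false
set_option linter.unusedSectionVars false
set_option linter.style.haveILetI false

namespace Cfsg.Agent.Ree.Cover

open Cfsg.Agent.Characters
open scoped ComplexConjugate

universe u

variable {G : Type u} [Group G] [Fintype G] [Fintype (Cfsg.IrrCharacter G)]

theorem conj_value_of_real {x : G} (hx : IsConj x x⁻¹) (χ : Cfsg.IrrCharacter G) :
    conj ((χ : G → ℂ) x) = (χ : G → ℂ) x := by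
  obtain ⟨c, hc⟩ := isConj_iff.1 hx
  rw [← char_inv (irr_isCharacter χ), ← hc]
  exact irr_isClassFunction χ x c

theorem exists_nat_average (R : Subgroup G) [Fintype R] {χ : G → ℂ} (h : Cfsg.IsCharacter G χ) :
    ∃ a : ℕ, ∑ u : R, χ u = (Nat.card R : ℂ) * a := by
  obtain ⟨a, ha⟩ := classInner_char_nat (isCharacter_restrict R h) (isCharacter_one (G := R))
  refine ⟨a, ?_⟩
  rw [← ha, classInner_def]
  simp only [map_one, mul_one]
  rw [mul_inv_cancel_left₀ natCard_ne_zero]

/-- The mean value of a character on a subgroup. -/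
noncomputable def avg (R : Subgroup G) [Fintype R] (χ : Cfsg.IrrCharacter G) : ℕ :=
  Classical.choose (exists_nat_average R (irr_isCharacter χ))

theorem avg_spec (R : Subgroup G) [Fintype R] (χ : Cfsg.IrrCharacter G) :
    ∑ u : R, (χ : G → ℂ) u = (Nat.card R : ℂ) * avg R χ :=
  Classical.choose_spec (exists_nat_average R (irr_isCharacter χ))

theorem avg_triv (R : Subgroup G) [Fintype R] : avg R (trivIrr G) = 1 := by
  have h := avg_spec R (trivIrr G)
  simp only [trivIrr_coe, Finset.sum_const, Finset.card_univ, nsmul_eq_mul, mul_one,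
    ← Nat.card_eq_fintype_card] at h
  have h' := mul_left_cancel₀ natCard_ne_zero (h.symm.trans (mul_one _).symm)
  exact_mod_cast h'

theorem norm_degree_pos (χ : Cfsg.IrrCharacter G) : 0 < ‖(χ : G → ℂ) 1‖ :=
  norm_pos_iff.2 (irr_one_ne_zero χ.2)

/-- If no nontrivial element of `R` is a product of two conjugates of `x`, the weighted sum of
the means is the centraliser order. -/
theorem root_eq (R : Subgroup G) [Fintype R] {x : G} (hx : IsConj x x⁻¹)
    (h : ∀ u ∈ R, u ≠ 1 → csum x u = 0) :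
    (Nat.card R : ℝ) * ∑ χ : Cfsg.IrrCharacter G,
      ‖(χ : G → ℂ) x‖ ^ 2 * avg R χ / ‖(χ : G → ℂ) 1‖ = centR x := by
  classical
  have h1 : ∑ u : R, csum x (u : G) = csum x 1 := by
    refine Finset.sum_eq_single (1 : R) (fun u _ hu => h u u.2 fun e => hu (Subtype.ext e)) ?_
    simp
  have key : ∀ χ : Cfsg.IrrCharacter G, ((‖(χ : G → ℂ) 1‖ : ℝ) : ℂ) = (χ : G → ℂ) 1 ∧
      (χ : G → ℂ) x * (χ : G → ℂ) x = ((‖(χ : G → ℂ) x‖ ^ 2 : ℝ) : ℂ) := fun χ => by
    obtain ⟨n, hn⟩ := char_one_nat (irr_isCharacter χ)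
    refine ⟨by rw [hn, Complex.norm_natCast, Complex.ofReal_natCast], ?_⟩
    conv_lhs => arg 2; rw [← conj_value_of_real hx χ]
    rw [Complex.mul_conj']
    push_cast; rfl
  have e2 : csum x 1 = ((centR x : ℝ) : ℂ) := by
    rw [csum, ← sum_norm_sq x, Complex.ofReal_sum]
    refine Finset.sum_congr rfl fun χ _ => ?_
    obtain ⟨hd, hx2⟩ := key χ
    rw [hx2, ← hd, Complex.conj_ofReal, mul_div_assoc,
      div_self (by exact_mod_cast (norm_degree_pos χ).ne'), mul_one]
  have e3 : ∑ u : R, csum x (u : G) = (((Nat.card R : ℝ) * ∑ χ : Cfsg.IrrCharacter G,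
      ‖(χ : G → ℂ) x‖ ^ 2 * avg R χ / ‖(χ : G → ℂ) 1‖ : ℝ) : ℂ) := by
    simp only [csum]
    rw [Finset.sum_comm, Complex.ofReal_mul, Complex.ofReal_sum, Finset.mul_sum]
    refine Finset.sum_congr rfl fun χ _ => ?_
    obtain ⟨hd, hx2⟩ := key χ
    rw [← Finset.sum_div, ← Finset.mul_sum, ← map_sum, avg_spec, hx2, Complex.ofReal_div,
      Complex.ofReal_mul, Complex.ofReal_natCast, Complex.ofReal_natCast, hd, map_mul,
      Complex.conj_natCast, Complex.conj_natCast]
    ring
  have := h1.symm.trans e3 |>.symm.trans e2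
  exact_mod_cast this

/-- A subgroup larger than the centraliser meets the product of the class with itself. -/
theorem root_large (R : Subgroup G) [Fintype R] {x : G} (hx : IsConj x x⁻¹)
    (h : centR x < Nat.card R) : ∃ u ∈ R, u ≠ 1 ∧ csum x u ≠ 0 := by
  classical
  by_contra hc
  push Not at hc
  have e := root_eq R hx fun u hu hu1 => hc u hu hu1
  have h1 : (1 : ℝ) ≤ ∑ χ : Cfsg.IrrCharacter G,
      ‖(χ : G → ℂ) x‖ ^ 2 * avg R χ / ‖(χ : G → ℂ) 1‖ := by
    refine le_trans (le_of_eq ?_) (Finset.single_le_sum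
      (f := fun χ : Cfsg.IrrCharacter G => ‖(χ : G → ℂ) x‖ ^ 2 * avg R χ / ‖(χ : G → ℂ) 1‖)
      (fun _ _ => by positivity) (Finset.mem_univ (trivIrr G)))
    simp [avg_triv]
  nlinarith [mul_le_mul_of_nonneg_left h1 (Nat.cast_nonneg (α := ℝ) (Nat.card R))]

theorem sum_norm_mul_le (x g : G) :
    ∑ χ : Cfsg.IrrCharacter G, ‖(χ : G → ℂ) x‖ * ‖(χ : G → ℂ) g‖ ≤
      Real.sqrt (centR x * centR g) := by
  refine Real.le_sqrt_of_sq_le ?_
  rw [← sum_norm_sq x, ← sum_norm_sq g]
  exact Finset.sum_mul_sq_le_sq_mul_sq _ _ _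

/-- The case where a character with the same mean ratio balances the centraliser. -/
theorem root_equal (R : Subgroup G) [Fintype R] {x : G} (hx : IsConj x x⁻¹) (hx1 : x ≠ 1)
    (σ : Cfsg.IrrCharacter G) (hσ : σ ≠ trivIrr G) {d a : ℕ} (hd : (σ : G → ℂ) 1 = (d : ℂ))
    (ha : avg R σ = a) (had : Nat.card R * a = d) (hσx : (σ : G → ℂ) x = -1)
    (hcx : centR x = Nat.card R + 1) {c : ℝ} (hc0 : 0 ≤ c) (hc : ∀ u ∈ R, u ≠ 1 → centR u ≤ c)
    (hd1 : 1 ≤ d)
    (hbig : ((Nat.card R : ℝ) - 1) ^ 2 * (centR x * c) < ((d : ℝ) - 1) ^ 2) :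
    ∃ u ∈ R, u ≠ 1 ∧ csum x u ≠ 0 := by
  classical
  by_contra hcon
  push Not at hcon
  have e := root_eq R hx fun u hu hu1 => hcon u hu hu1
  set w : Cfsg.IrrCharacter G → ℝ :=
    fun χ => ‖(χ : G → ℂ) x‖ ^ 2 * avg R χ / ‖(χ : G → ℂ) 1‖ with hw
  set rest := (nontriv G).erase σ with hrest
  have hsplit : ∀ {M : Type} [AddCommMonoid M] (f : Cfsg.IrrCharacter G → M),
      ∑ χ, f χ = f (trivIrr G) + (f σ + ∑ χ ∈ rest, f χ) := fun f => by
    rw [sum_split f, hrest, Finset.add_sum_erase _ _ (mem_nontriv.2 hσ)]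
  have hwσ : (Nat.card R : ℝ) * w σ = 1 := by
    rw [hw]
    simp only [hσx, hd, norm_neg, norm_one, one_pow, one_mul, ha, Complex.norm_natCast]
    have h2 : (Nat.card R : ℝ) * (a : ℝ) = (d : ℝ) := by exact_mod_cast had
    rw [← mul_div_assoc, h2, div_self (by exact_mod_cast (by omega : d ≠ 0))]
  have hw1 : w (trivIrr G) = 1 := by simp [hw, avg_triv]
  rw [hsplit w, mul_add, mul_add, hwσ, hw1, mul_one, hcx] at e
  have hR : (0 : ℝ) < Nat.card R := Nat.cast_pos.2 Nat.card_pos
  have h0 : ∑ χ ∈ rest, w χ = 0 :=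
    (mul_eq_zero.1 (show (Nat.card R : ℝ) * ∑ χ ∈ rest, w χ = 0 by linarith)).resolve_left hR.ne'
  have hzero := (Finset.sum_eq_zero_iff_of_nonneg fun χ _ => by positivity).1 h0
  set R' := (Finset.univ : Finset R).erase 1
  have hle : ∀ χ ∈ rest, ‖(χ : G → ℂ) x * (χ : G → ℂ) 1‖ ≤
      ∑ u ∈ R', ‖(χ : G → ℂ) x‖ * ‖(χ : G → ℂ) (u : G)‖ := by
    intro χ hχ
    rw [norm_mul, ← Finset.mul_sum]
    by_cases hx0 : (χ : G → ℂ) x = 0
    · simp [hx0]
    refine mul_le_mul_of_nonneg_left ?_ (norm_nonneg _)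
    have ha0 : avg R χ = 0 := by
      have h1 := hzero χ hχ
      simp only [hw, div_eq_zero_iff, mul_eq_zero, Nat.cast_eq_zero] at h1
      rcases h1 with (h1 | h1) | h1
      · exact absurd (pow_eq_zero_iff two_ne_zero |>.1 h1) (by simpa using hx0)
      · exact h1
      · exact absurd h1 (norm_degree_pos χ).ne'
    have h2 := avg_spec R χ
    rw [ha0, Nat.cast_zero, mul_zero, ← Finset.add_sum_erase _ _ (Finset.mem_univ (1 : R))] at h2
    rw [show (χ : G → ℂ) 1 = (χ : G → ℂ) ((1 : R) : G) from rfl, eq_neg_of_add_eq_zero_left h2,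
      norm_neg]
    exact norm_sum_le _ _
  have horth := second_orthogonality x (1 : G)
  rw [if_neg (fun hc => hx1 (isConj_one_left.1 hc)), hsplit] at horth
  simp only [trivIrr_coe, map_one, mul_one, hσx, hd, Complex.conj_natCast] at horth
  have h3 : ∑ χ ∈ rest, (χ : G → ℂ) x * conj ((χ : G → ℂ) 1) = (((d : ℝ) - 1 : ℝ) : ℂ) := by
    push_cast; linear_combination horth
  have hB : ((d : ℝ) - 1) ≤ ((Nat.card R : ℝ) - 1) * Real.sqrt (centR x * c) := by
    have h4 : (d : ℝ) - 1 ≤ ‖∑ χ ∈ rest, (χ : G → ℂ) x * conj ((χ : G → ℂ) 1)‖ := by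
      rw [h3, Complex.norm_real]; exact le_abs_self _
    refine h4.trans ((norm_sum_le _ _).trans ?_)
    refine (Finset.sum_le_sum fun χ hχ => ?_).trans
      (le_trans (le_of_eq (Finset.sum_comm (s := rest) (t := R')
        (f := fun χ u => ‖(χ : G → ℂ) x‖ * ‖(χ : G → ℂ) (u : G)‖))) ?_)
    · rw [norm_mul, Complex.norm_conj, ← norm_mul]
      exact hle χ hχ
    · refine (Finset.sum_le_card_nsmul _ _ (Real.sqrt (centR x * c)) fun u hu => ?_).trans
        (le_of_eq ?_)
      · refine le_trans (Finset.sum_le_univ_sum_of_nonneg fun _ => by positivity)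
          ((sum_norm_mul_le x u).trans (Real.sqrt_le_sqrt ?_))
        refine mul_le_mul_of_nonneg_left (hc u u.2 fun e => (Finset.mem_erase.1 hu).1 (Subtype.ext e))
          ?_
        exact Nat.cast_nonneg _
      · rw [nsmul_eq_mul, Finset.card_erase_of_mem (Finset.mem_univ _), Finset.card_univ,
          ← Nat.card_eq_fintype_card, Nat.cast_sub Nat.card_pos, Nat.cast_one]
  have hd0 : (0 : ℝ) ≤ (d : ℝ) - 1 := by
    have : (1 : ℝ) ≤ d := by exact_mod_cast hd1
    linarith
  have hb0 : 0 ≤ centR x * c := mul_nonneg (Nat.cast_nonneg _) hc0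
  have := pow_le_pow_left₀ hd0 hB 2
  rw [mul_pow, Real.sq_sqrt hb0] at this
  linarith

/-- The value at an involution inverting an abelian subgroup by conjugation. -/
theorem involution_bound (T : Subgroup G) [Fintype T] {s g : G} (hs : s * s = 1) (hsT : s ∉ T)
    (hinv : ∀ y ∈ T, s * y * s = y⁻¹) (hg : ∀ y ∈ T, IsConj g (s * y))
    (χ : Cfsg.IrrCharacter G) :
    (Nat.card T : ℝ) * ‖(χ : G → ℂ) g‖ ≤ ∑ y : T, ‖(χ : G → ℂ) y‖ := by
  classical
  have hys : ∀ y ∈ T, y * s = s * y⁻¹ := fun y hy => by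
    rw [← hinv y hy, mul_assoc s y s, ← mul_assoc s s, hs, one_mul]
  have hsinv : s⁻¹ = s := inv_eq_of_mul_eq_one_right hs
  let D : Subgroup G :=
    { carrier := {d | d ∈ T ∨ s * d ∈ T}
      one_mem' := Or.inl (one_mem T)
      mul_mem' := by
        rintro a b (ha | ha) (hb | hb)
        · exact Or.inl (mul_mem ha hb)
        · refine Or.inr ?_
          have : s * (a * b) = a⁻¹ * (s * b) := by
            rw [← mul_assoc s, show s * a = a⁻¹ * s by
              rw [hys a⁻¹ (inv_mem ha), inv_inv], mul_assoc]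
          rw [this]; exact mul_mem (inv_mem ha) hb
        · exact Or.inr (by rw [← mul_assoc]; exact mul_mem ha hb)
        · refine Or.inl ?_
          have : a * b = (s * a)⁻¹ * (s * b) := by
            calc a * b = s * (s * a) * s * (s * b) := by
                  rw [mul_assoc _ s (s * b), ← mul_assoc s s b, hs, one_mul, ← mul_assoc s s a,
                    hs, one_mul]
              _ = _ := by rw [hinv _ ha]
          rw [this]; exact mul_mem (inv_mem ha) hb
      inv_mem' := by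
        rintro a (ha | ha)
        · exact Or.inl (inv_mem ha)
        · refine Or.inr ?_
          have e : a = s * (s * a) := by rw [← mul_assoc, hs, one_mul]
          rw [e, mul_inv_rev, hsinv, hys _ (inv_mem ha), inv_inv, ← mul_assoc, hs, one_mul]
          exact ha }
  have hiff : ∀ {d : G}, d ∈ D → d ∉ T → s * d ∈ T := fun hd hn => hd.resolve_left hn
  have hnot : ∀ {d : G}, s * d ∈ T → d ∉ T := fun hd h => hsT (by
    simpa using mul_mem hd (inv_mem h))
  haveI := Fintype.ofFinite D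
  let sg : D →* ℂ :=
    { toFun := fun d => if (d : G) ∈ T then 1 else -1
      map_one' := if_pos (one_mem T)
      map_mul' := fun a b => by
        by_cases ha : (a : G) ∈ T <;> by_cases hb : (b : G) ∈ T
        · rw [Subgroup.coe_mul, if_pos ha, if_pos hb, if_pos (mul_mem ha hb), one_mul]
        · rw [Subgroup.coe_mul, if_pos ha, if_neg hb, if_neg (fun h => hb (by
            simpa using mul_mem (inv_mem ha) h)), one_mul]
        · rw [Subgroup.coe_mul, if_neg ha, if_pos hb, if_neg (fun h => ha (by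
            simpa using mul_mem h (inv_mem hb))), mul_one]
        · have hab : (a : G) * b ∈ T := by
            have e : (a : G) * b = (s * a)⁻¹ * (s * b) := by
              calc (a : G) * b = s * (s * a) * s * (s * b) := by
                    rw [mul_assoc _ s (s * (b : G)), ← mul_assoc s s (b : G), hs, one_mul,
                      ← mul_assoc s s (a : G), hs, one_mul]
                _ = _ := by rw [hinv _ (hiff a.2 ha)]
            rw [e]; exact mul_mem (inv_mem (hiff a.2 ha)) (hiff b.2 hb)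
          rw [Subgroup.coe_mul, if_neg ha, if_neg hb, if_pos hab]; norm_num }
  have hres : Cfsg.IsCharacter D fun d : D => (χ : G → ℂ) d :=
    isCharacter_restrict D (irr_isCharacter χ)
  have hsum : ∀ f : G → ℂ, ∑ d : D, f d = ∑ y : T, f y + ∑ y : T, f (s * y) := by
    intro f
    let e : ↥T ⊕ ↥T → ↥D := fun p => p.elim (fun y : T => (⟨(y : G), Or.inl y.2⟩ : D))
      (fun y : T => (⟨s * (y : G), Or.inr (by rw [← mul_assoc, hs, one_mul]; exact y.2)⟩ : D))
    have he : Function.Bijective e := by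
      constructor
      · rintro (a | a) (b | b) h <;> have h' := congrArg Subtype.val h <;>
          simp only [e, Sum.elim_inl, Sum.elim_inr] at h'
        · rw [Subtype.ext h']
        · exact absurd (h' ▸ a.2) (hnot (d := s * b) (by rw [← mul_assoc, hs, one_mul]; exact b.2))
        · exact absurd (h'.symm ▸ b.2) (hnot (d := s * a) (by rw [← mul_assoc, hs, one_mul]; exact a.2))
        · rw [Subtype.ext (mul_left_cancel h')]
      · rintro ⟨d, hd | hd⟩
        · exact ⟨Sum.inl ⟨d, hd⟩, rfl⟩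
        · exact ⟨Sum.inr ⟨s * d, hd⟩, Subtype.ext (by simp [e, ← mul_assoc, hs])⟩
    rw [← Fintype.sum_bijective e he (fun p => f (e p : G)) (fun d => f d) fun _ => rfl,
      Fintype.sum_sum_type]
    rfl
  obtain ⟨n1, h1⟩ := classInner_char_nat hres (isCharacter_one (G := D))
  obtain ⟨n2, h2⟩ := classInner_char_nat hres
    (isCharacter_of_isIrr (isIrrCharacter_monoidHom sg))
  rw [classInner_def, inv_mul_eq_iff_eq_mul₀ natCard_ne_zero] at h1 h2
  simp only [map_one, mul_one] at h1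
  rw [hsum fun d => (χ : G → ℂ) d] at h1
  have h2' : ∑ y : T, (χ : G → ℂ) y - ∑ y : T, (χ : G → ℂ) (s * y) =
      (Nat.card D : ℂ) * n2 := by
    rw [← h2]
    have := hsum fun d => (χ : G → ℂ) d * conj (if d ∈ T then (1 : ℂ) else -1)
    refine Eq.trans ?_ (this.symm.trans (Finset.sum_congr rfl fun d _ => rfl))
    rw [sub_eq_add_neg, ← Finset.sum_neg_distrib]
    congr 1
    · exact Finset.sum_congr rfl fun y _ => by rw [if_pos y.2, map_one, mul_one]
    · exact Finset.sum_congr rfl fun y _ => by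
        rw [if_neg (hnot (by rw [← mul_assoc, hs, one_mul]; exact y.2)), map_neg, map_one,
          mul_neg_one]
  have hgval : ∑ y : T, (χ : G → ℂ) (s * y) = (Nat.card T : ℂ) * (χ : G → ℂ) g := by
    rw [Finset.sum_congr rfl (g := fun _ => (χ : G → ℂ) g) fun y _ => ?_, Finset.sum_const,
      Finset.card_univ, nsmul_eq_mul, Nat.card_eq_fintype_card]
    obtain ⟨c, hc⟩ := isConj_iff.1 (hg y y.2)
    rw [← hc]
    exact irr_isClassFunction χ g c
  rw [hgval] at h1 h2'
  obtain ⟨A, hA⟩ : ∃ A : ℂ, A = ∑ y : T, (χ : G → ℂ) y := ⟨_, rfl⟩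
  rw [← hA] at h1 h2'
  have e1 : A = (((Nat.card D : ℝ) * (n1 + n2) / 2 : ℝ) : ℂ) := by
    push_cast; linear_combination (h1 + h2') / 2
  have e2 : (Nat.card T : ℂ) * (χ : G → ℂ) g = (((Nat.card D : ℝ) * ((n1 : ℝ) - n2) / 2 : ℝ) : ℂ) := by
    push_cast; linear_combination (h1 - h2') / 2
  calc (Nat.card T : ℝ) * ‖(χ : G → ℂ) g‖ = ‖(Nat.card T : ℂ) * (χ : G → ℂ) g‖ := by
        rw [norm_mul, Complex.norm_natCast]
    _ ≤ ‖A‖ := by
        rw [e1, e2, Complex.norm_real, Complex.norm_real, Real.norm_eq_abs, Real.norm_eq_abs,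
          abs_of_nonneg (a := (Nat.card D : ℝ) * (n1 + n2) / 2) (by positivity)]
        have hD : (0 : ℝ) ≤ Nat.card D := Nat.cast_nonneg _
        rw [abs_le]
        constructor <;> nlinarith [mul_nonneg hD (Nat.cast_nonneg (α := ℝ) n1),
          mul_nonneg hD (Nat.cast_nonneg (α := ℝ) n2)]
    _ ≤ _ := by rw [hA]; exact norm_sum_le _ _

/-- An involution inverting a torus larger than the centraliser of `x`. -/
theorem exists_of_dihedral (T : Subgroup G) [Fintype T] {s g : G} (hs : s * s = 1) (hsT : s ∉ T)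
    (hinv : ∀ y ∈ T, s * y * s = y⁻¹) (hg : ∀ y ∈ T, IsConj g (s * y))
    (hcent : ∀ y ∈ T, y ≠ 1 → centR y ≤ Nat.card T) (x : G) {δ : ℝ} (hδ : 0 < δ)
    (hdeg : ∀ χ ∈ nontriv G, δ ≤ ‖(χ : G → ℂ) 1‖)
    (h : (centR x - 1) * (1 / Nat.card T + Real.sqrt (Nat.card T) / δ) < 1) :
    ∃ u v : G, g = u * x * u⁻¹ * (v * x * v⁻¹) := by
  classical
  refine exists_of_bound x g (lt_of_le_of_lt ?_ h)
  rw [← sum_norm_sq_nontriv, Finset.sum_mul]
  refine Finset.sum_le_sum fun χ hχ => ?_
  rw [mul_div_assoc]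
  refine mul_le_mul_of_nonneg_left ?_ (by positivity)
  have h1 := involution_bound T hs hsT hinv hg χ
  rw [← Finset.add_sum_erase _ _ (Finset.mem_univ (1 : T))] at h1
  have h2 : ∑ y ∈ (Finset.univ : Finset T).erase 1, ‖(χ : G → ℂ) y‖ ≤
      (Nat.card T : ℝ) * Real.sqrt (Nat.card T) := by
    refine (Finset.sum_le_card_nsmul _ _ (Real.sqrt (Nat.card T)) fun y hy => ?_).trans ?_
    · refine Real.le_sqrt_of_sq_le ?_
      refine le_trans ?_ (hcent y y.2 fun e => (Finset.mem_erase.1 hy).1 (Subtype.ext e))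
      rw [← sum_norm_sq (y : G)]
      exact Finset.single_le_sum (f := fun ψ : Cfsg.IrrCharacter G => ‖(ψ : G → ℂ) y‖ ^ 2)
        (fun _ _ => by positivity) (Finset.mem_univ χ)
    · rw [nsmul_eq_mul]
      refine mul_le_mul_of_nonneg_right ?_ (Real.sqrt_nonneg _)
      exact_mod_cast (Finset.card_erase_le).trans (le_of_eq (by simp [Nat.card_eq_fintype_card]))
  have hT : (0 : ℝ) < Nat.card T := Nat.cast_pos.2 Nat.card_pos
  have hD : 0 < ‖(χ : G → ℂ) 1‖ := norm_degree_pos χ
  rw [OneMemClass.coe_one] at h1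
  rw [div_le_iff₀ hD]
  refine le_of_mul_le_mul_left ?_ hT
  calc (Nat.card T : ℝ) * ‖(χ : G → ℂ) g‖
      ≤ ‖(χ : G → ℂ) 1‖ + (Nat.card T : ℝ) * Real.sqrt (Nat.card T) * 1 := by linarith
    _ ≤ ‖(χ : G → ℂ) 1‖ + (Nat.card T : ℝ) * Real.sqrt (Nat.card T) * (‖(χ : G → ℂ) 1‖ / δ) := by
        gcongr
        rw [le_div_iff₀ hδ, one_mul]
        exact hdeg χ hχ
    _ = _ := by field_simp

end Cfsg.Agent.Ree.Cover
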