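import Cfsg.Agent.Lib.Ree.Cover.Elements
import Cfsg.Agent.Lib.Ree.Cover.Roots
import Cfsg.Agent.Lib.CharTheory.IndBasic

/-!
The permutation character on the cosets of the Borel subgroup, and the least degree.
-/

set_option autoImplicit false
set_option linter.unusedSectionVars false
set_option linter.style.haveILetI false

open scoped Matrix Pointwise MatrixGroups ComplexConjugate

namespace Cfsg.Agent.Ree.Cover

open Cfsg.Lie Cfsg.Agent.Chevalley Cfsg.Agent.Chevalley.Cert Cfsg.Agent.Chevalley.Group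
  Cfsg.Agent.Chevalley.Twist Cfsg.Agent.Chevalley.Twist.G2 Cfsg.Agent.Chevalley.SL2
open Cfsg.Agent.Characters

variable {K : Type*} [Field K] [Fintype K] [CharP K 3] {m : ℕ}

local notation "GG" => twistedG2 K (3 ^ m)
local notation "qq" => Fintype.card K

variable {hK : Fintype.card K = 3 ^ (2 * m + 1)} (X : Setup (K := K) hK)
include X

theorem card_cosets : Nat.card (GG ⧸ bor X) = qq ^ 3 + 1 := by
  have h := Subgroup.card_eq_card_quotient_mul_card_subgroup (bor X)
  rw [card_GG X, card_bor X] at h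
  have h1 := Fintype.one_lt_card (α := K)
  have hne : qq ^ 3 * (qq - 1) ≠ 0 := Nat.mul_ne_zero (pow_ne_zero 3 (by omega)) (by omega)
  refine mul_right_cancel₀ hne ?_
  rw [← h]; ring

/-- The permutation character. -/
noncomputable def permChar [Fintype GG] : ↥(twistedG2 K (3 ^ m)) → ℂ :=
  Cfsg.indFun (bor X) fun _ => 1

theorem permChar_apply [Fintype GG] (g : GG) :
    permChar X g = (Nat.card {z : GG ⧸ bor X // g • z = z} : ℂ) :=
  CharTheory.IndBasic.indFun_one_eq_card_fixed (bor X) g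

theorem sum_fixed :
    ∑ᶠ b : bor X, Nat.card {z : GG ⧸ bor X // (b : GG) • z = z} = 2 * Nat.card (bor X) := by
  classical
  haveI := Fintype.ofFinite (bor X)
  haveI := Fintype.ofFinite (GG ⧸ bor X)
  let Ω := GG ⧸ bor X
  have hb : ∀ b : bor X, b • (((1 : GG) : GG ⧸ bor X) : Ω) = ((1 : GG) : GG ⧸ bor X) :=
    fun b => (smul_base X).2 b.2
  have horb : ∀ z w : Ω, z ≠ ((1 : GG) : GG ⧸ bor X) → w ≠ ((1 : GG) : GG ⧸ bor X) →
      z ∈ MulAction.orbit (bor X) w := by
    intro z w hz hw
    obtain ⟨p, rfl⟩ := (coset_cases X z).resolve_left hz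
    obtain ⟨p', rfl⟩ := (coset_cases X w).resolve_left hw
    refine ⟨⟨uu X p * (uu X p')⁻¹, mul_mem (uu_mem_bor X p) (inv_mem (uu_mem_bor X p'))⟩, ?_⟩
    show (uu X p * (uu X p')⁻¹) • ((uu X p' * nn X : GG) : GG ⧸ bor X) = _
    rw [MulAction.Quotient.smul_coe, smul_eq_mul]
    group
  haveI := Fintype.ofFinite (Quotient (MulAction.orbitRel (bor X) Ω))
  have h2 : Fintype.card (Quotient (MulAction.orbitRel (bor X) Ω)) = 2 := by
    rw [← Finset.card_univ, Finset.card_eq_two]
    refine ⟨⟦((1 : GG) : GG ⧸ bor X)⟧, ⟦((nn X : GG) : GG ⧸ bor X)⟧, fun e => ?_, ?_⟩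
    · obtain ⟨b, hb'⟩ := (Quotient.exact e.symm :)
      have := hb'.symm.trans (hb b)
      exact nn_not_bor X 0 (by
        rw [show uu X (0 : K × K × K) = 1 from uu_zero X, one_mul]
        exact (smul_base X).1 (by rw [smul_coe_base]; exact this))
    · refine (Finset.eq_univ_of_forall fun c => ?_).symm
      obtain ⟨z, rfl⟩ := Quotient.exists_rep c
      simp only [Finset.mem_insert, Finset.mem_singleton]
      by_cases hz : z = ((1 : GG) : GG ⧸ bor X)
      · exact Or.inl (by rw [hz])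
      · refine Or.inr (Quotient.sound (horb _ _ hz fun e => ?_))
        exact nn_not_bor X 0 (by
          rw [show uu X (0 : K × K × K) = 1 from uu_zero X, one_mul]
          exact (smul_base X).1 (by rw [smul_coe_base]; exact e))
  rw [finsum_eq_sum_of_fintype, ← h2, Nat.card_eq_fintype_card,
    ← MulAction.sum_card_fixedBy_eq_card_orbits_mul_card_group (bor X) Ω]
  exact Finset.sum_congr rfl fun b _ => Nat.card_eq_fintype_card

theorem permChar_norm [Fintype GG] : Cfsg.classInner (permChar X) (permChar X) = 2 := by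
  classical
  haveI := Fintype.ofFinite (bor X)
  rw [show Cfsg.classInner (permChar X) (permChar X) =
      Cfsg.classInner (Cfsg.indFun (bor X) fun _ => 1) (permChar X) from rfl,
    frobenius_reciprocity (bor X) (fun _ => 1) (χ := permChar X)
      (indFun_isClassFunction (bor X) _), classInner_def,
    inv_mul_eq_iff_eq_mul₀ natCard_ne_zero]
  have h := sum_fixed X
  rw [finsum_eq_sum_of_fintype] at h
  have h' : (∑ b : bor X, (Nat.card {z : GG ⧸ bor X // (b : GG) • z = z} : ℂ)) =
      (Nat.card (bor X) : ℂ) * 2 := by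
    rw [← Nat.cast_sum, h]; push_cast; ring
  rw [← h']
  exact Finset.sum_congr rfl fun b _ => by rw [one_mul, permChar_apply, Complex.conj_natCast]

theorem permChar_uu [Fintype GG] {p : K × K × K} (hp : p ≠ 0) : permChar X (uu X p) = 1 := by
  rw [permChar_apply]
  norm_cast
  haveI : Unique {z : GG ⧸ bor X // uu X p • z = z} :=
    ⟨⟨⟨_, (smul_base X).2 (uu_mem_bor X p)⟩⟩,
      fun z => Subtype.ext (uu_fix_only_base X hp z.2)⟩
  exact Nat.card_unique

theorem permChar_free [Fintype GG] {x : GG} (hx : ∀ k : GG, k⁻¹ * x * k ∉ bor X) :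
    permChar X x = 0 := by
  rw [permChar_apply]
  norm_cast
  haveI : IsEmpty {z : GG ⧸ bor X // x • z = z} := ⟨fun z => by
    obtain ⟨k, hk⟩ := QuotientGroup.mk_surjective z.1
    refine hx k ((smul_base X).1 ?_)
    rw [mul_smul, mul_smul, smul_coe_base, inv_smul_eq_iff, hk, z.2, ← hk, smul_coe_base]⟩
  exact Nat.card_of_isEmpty

/-- The nontrivial constituent of the permutation character. -/
theorem steinberg [Fintype GG] :
    ∃ σ : Cfsg.IrrCharacter GG, σ ≠ trivIrr GG ∧
      (σ : GG → ℂ) 1 = ((qq ^ 3 : ℕ) : ℂ) ∧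
      (∀ p, p ≠ 0 → (σ : GG → ℂ) (uu X p) = 0) ∧
      ∀ x : GG, (∀ k : GG, k⁻¹ * x * k ∉ bor X) → (σ : GG → ℂ) x = -1 := by
  classical
  haveI := Fintype.ofFinite (bor X)
  set π := permChar X with hπ
  have hπc : Cfsg.IsCharacter GG π := isCharacter_indFun _ isCharacter_one
  have h1 : Cfsg.classInner π (fun _ => (1 : ℂ)) = 1 := by
    rw [hπ, permChar, frobenius_reciprocity _ _ (char_isClassFunction isCharacter_one),
      classInner_isIrr_self isIrrCharacter_one]
  have hone : π 1 = ((qq ^ 3 + 1 : ℕ) : ℂ) := by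
    rw [hπ, permChar, indFun_one, mul_one, Subgroup.index_eq_card, card_cosets X]
  set σ := π - fun _ => (1 : ℂ) with hσ
  have hσn : Cfsg.classInner σ σ = 1 := by
    rw [hσ, classInner_sub_left, classInner_sub_right, classInner_sub_right, h1,
      classInner_conj_symm π (fun _ => (1 : ℂ)), h1, map_one,
      classInner_isIrr_self isIrrCharacter_one, hπ, permChar_norm X]
    ring
  have hσ1 : σ 1 = ((qq ^ 3 : ℕ) : ℂ) := by
    rw [hσ, Pi.sub_apply, hone]; push_cast; ring
  have hirr : Cfsg.IsIrrCharacter GG σ := by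
    refine isIrr_of_gen_norm_one
      (isGen_sub (isGen_of_isCharacter hπc) (isGen_of_isCharacter isCharacter_one)) hσn ?_
    rw [hσ1, Complex.natCast_re]
    positivity
  refine ⟨⟨σ, hirr⟩, fun e => ?_, hσ1, fun p hp => ?_, fun x hx => ?_⟩
  · have := congrArg (fun ψ : Cfsg.IrrCharacter GG => (ψ : GG → ℂ) 1) e
    simp only [trivIrr_coe] at this
    rw [hσ1] at this
    have h3 : qq ^ 3 = 1 := by exact_mod_cast this
    exact (Fintype.one_lt_card (α := K)).ne' ((pow_eq_one_iff.1 h3).resolve_right (by norm_num))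
  · show π (uu X p) - 1 = 0
    rw [hπ, permChar_uu X hp, sub_self]
  · show π x - 1 = -1
    rw [hπ, permChar_free X hx, zero_sub]

theorem degree_ge (hm : 1 ≤ m) [Fintype GG]
    (χ : Cfsg.IrrCharacter GG) (hχ : χ ≠ trivIrr GG) :
    ((qq : ℝ) ^ 2 - qq + 1) ≤ ‖(χ : GG → ℂ) 1‖ := by
  classical
  obtain ⟨n, ρ, hρ, hρe⟩ := χ.2
  haveI := hρ
  have hn : (χ : GG → ℂ) 1 = (n : ℂ) := by
    rw [← hρe, ρ.char_one, Module.finrank_fintype_fun_eq_card, Fintype.card_fin]
  have hn2 : 2 ≤ n := by
    by_contra hlt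
    have h0 := finrank_pos_of_isIrreducible ρ
    rw [Module.finrank_fintype_fun_eq_card, Fintype.card_fin] at h0
    obtain rfl : n = 1 := by omega
    rw [Nat.cast_one] at hn
    have hmul := char_mul_of_degree_one (irr_isCharacter χ) hn
    let f : GG →* ℂˣ := MonoidHom.toHomUnits
      { toFun := (χ : GG → ℂ), map_one' := hn, map_mul' := hmul }
    refine hχ (Subtype.ext (funext fun g => ?_))
    have hker : g ∈ f.ker := by
      refine Abelianization.commutator_subset_ker f ?_
      have : commutator GG = ⊤ := Twist.G2.perfect X hm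
      rw [this]
      exact Subgroup.mem_top g
    exact congrArg Units.val (MonoidHom.mem_ker.1 hker)
  have h := min_degree X ρ hm hn2
  rw [hn, Complex.norm_natCast, show (qq : ℝ) = ((3 ^ (2 * m + 1) : ℕ) : ℝ) by rw [hK]]
  have hle : 3 ^ (2 * m + 1) ≤ (3 ^ (2 * m + 1)) ^ 2 := Nat.le_self_pow two_ne_zero _
  have h' : (((3 ^ (2 * m + 1)) ^ 2 - 3 ^ (2 * m + 1) + 1 : ℕ) : ℝ) ≤ (n : ℝ) := by exact_mod_cast h
  push_cast [Nat.cast_sub hle] at h'
  push_cast
  exact h'

end Cfsg.Agent.Ree.Cover
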